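import Cfsg.Agent.Lib.Helper42.Sp8.Defs

set_option autoImplicit false
set_option linter.unusedSectionVars false

namespace Cfsg.Agent.Lib.Helper42.Sp8

open Matrix QuadraticMap Cfsg.Agent.Lib.Helper44 Cfsg.Agent.Lib.Helper43.PO
  Cfsg.Agent.Lib.Helper38.QCnt Cfsg.Agent.Lib.Helper42.SpecPSp

variable {F : Type*} [Field F] [Fintype F]

lemma STD_nondeg [CharP F 2] (n : ℕ) (t : F) : (polarBilin (minusQF n F 1 t)).Nondegenerate := by
  apply nondeg_of_sep
  intro x hx
  have h2 : (2 : F) = 0 := CharTwo.two_eq_zero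
  have h0 := hx (Pi.single (Sum.inr 0) 1)
  have h1 := hx (Pi.single (Sum.inr 1) 1)
  rw [polar_comm, minusQF_polar_single_zero] at h0
  rw [polar_comm, minusQF_polar_single_one] at h1
  ext k
  rcases k with (j | j) | j
  · have := hx (Pi.single (Sum.inl (Sum.inr j)) 1)
    rwa [polar_comm, minusQF_polar_single_inr] at this
  · have := hx (Pi.single (Sum.inl (Sum.inl j)) 1)
    rwa [polar_comm, minusQF_polar_single_inl] at this
  · fin_cases j
    · show x (Sum.inr 0) = 0
      linear_combination h1 - (t * x (Sum.inr 1)) * h2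
    · show x (Sum.inr 1) = 0
      linear_combination h0 - (x (Sum.inr 0)) * h2

lemma STD_exc_zero (n : ℕ) : exc ⇑(minusQF n F 1 0) = exc ⇑(plusQF (n + 1) F) := by
  have hinj : Function.Injective (minusT n (0 : F) (-1)) :=
    minusT_injective n (by
      intro h
      have : (1 : F) = 0 := by linear_combination h
      exact one_ne_zero this)
  have hbij : Function.Bijective (minusT n (0 : F) (-1)) := by
    rw [Fintype.bijective_iff_injective_and_card]
    refine ⟨hinj, ?_⟩
    simp only [Fintype.card_fun, Fintype.card_sum, Fintype.card_fin]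
    congr 1
    ring
  have h := cnt_congr (⇑(plusQF (n + 1) F)) (⇑(minusQF n F 1 0)) (Equiv.ofBijective _ hbij)
    (fun w => plusQF_minusT n (by ring) (by ring) w) 0
  unfold exc
  rw [h]
  congr 2
  simp only [Fintype.card_sum, Fintype.card_fin]
  ring

/-- STD -/
theorem realQ_of_std [CharP F 2] (n : ℕ) (t : F) (M : ℕ) (hM : 0 < M)
    (X : Matrix ((Fin n ⊕ Fin n) ⊕ Fin 2) ((Fin n ⊕ Fin n) ⊕ Fin 2) F)
    (hX : ∀ v, minusQF n F 1 t (X *ᵥ v) = minusQF n F 1 t v) (hj : ∀ j : ℕ, X ^ j = 1 ↔ M ∣ j) :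
    (t = 0 → RealQ F (n + 1) false M) ∧
      ((∀ s : F, s ^ 2 + s + t ≠ 0) → RealQ F (n + 1) true M) := by
  have hcard : Fintype.card ((Fin n ⊕ Fin n) ⊕ Fin 2) = 2 * (n + 1) := by
    simp only [Fintype.card_sum, Fintype.card_fin]
    ring
  constructor
  · intro ht
    refine ⟨(Fin n ⊕ Fin n) ⊕ Fin 2, inferInstance, inferInstance, minusQF n F 1 t, X, Nat.succ_pos n, hM,
      hcard, STD_nondeg n t, ?_, ?_, hX, hj⟩
    · intro h; exact absurd h (by decide)
    · intro _
      rw [ht, STD_exc_zero, exc_plus]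
      exact card_pow_mul_pos n
  · intro ht
    refine ⟨(Fin n ⊕ Fin n) ⊕ Fin 2, inferInstance, inferInstance, minusQF n F 1 t, X, Nat.succ_pos n, hM,
      hcard, STD_nondeg n t, ?_, ?_, hX, hj⟩
    · intro _
      rw [exc_minus n (aniso_of_irr ht)]
      have := card_pow_mul_pos (F := F) n
      omega
    · intro h; exact absurd h (by decide)

end Cfsg.Agent.Lib.Helper42.Sp8
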