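import Cfsg.Agent.Lib.Helper42.Sp8.Defs2
import Cfsg.Agent.Lib.Helper42.Sp8.STD

set_option autoImplicit false

namespace Cfsg.Agent.Lib.Helper42.Sp8

open Matrix QuadraticMap Cfsg.Agent.Lib.Helper44 Cfsg.Agent.Lib.Helper43.PO
  Cfsg.Agent.Lib.Helper38.QCnt Cfsg.Agent.Lib.Helper42.SpecPSp

variable {F : Type*} [Field F] [Fintype F]

/-- ASTD -/
theorem realA_of_std [CharP F 2] (n : ℕ) (t : F) (e : Bool) (M : ℕ) (hM : 0 < M)
    (X : Matrix ((Fin n ⊕ Fin n) ⊕ Fin 2) ((Fin n ⊕ Fin n) ⊕ Fin 2) F)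
    (v : (Fin n ⊕ Fin n) ⊕ Fin 2 → F)
    (hX : ∀ w, minusQF n F 1 t (X *ᵥ w) = minusQF n F 1 t w)
    (he1 : e = true → Odd (X - 1).rank) (he0 : e = false → Even (X - 1).rank)
    (hj : ∀ j : ℕ, (X ^ j = 1 ∧ (∑ i ∈ Finset.range j, X ^ i) *ᵥ v = 0) ↔ M ∣ j) :
    (t = 0 → RealA F (n + 1) false e M) ∧
      ((∀ s : F, s ^ 2 + s + t ≠ 0) → RealA F (n + 1) true e M) := by
  have hcard : Fintype.card ((Fin n ⊕ Fin n) ⊕ Fin 2) = 2 * (n + 1) := by
    simp only [Fintype.card_sum, Fintype.card_fin]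
    ring
  constructor
  · intro ht
    refine ⟨(Fin n ⊕ Fin n) ⊕ Fin 2, inferInstance, inferInstance, minusQF n F 1 t, X, v, Nat.succ_pos n, hM,
      hcard, STD_nondeg n t, ?_, ?_, hX, he1, he0, hj⟩
    · intro h; exact absurd h (by decide)
    · intro _
      rw [ht, STD_exc_zero, exc_plus]
      exact card_pow_mul_pos n
  · intro ht
    refine ⟨(Fin n ⊕ Fin n) ⊕ Fin 2, inferInstance, inferInstance, minusQF n F 1 t, X, v, Nat.succ_pos n, hM,
      hcard, STD_nondeg n t, ?_, ?_, hX, he1, he0, hj⟩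
    · intro _
      rw [exc_minus n (aniso_of_irr ht)]
      have := card_pow_mul_pos (F := F) n
      omega
    · intro h; exact absurd h (by decide)

end Cfsg.Agent.Lib.Helper42.Sp8
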