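import Mathlib

set_option autoImplicit false

namespace Cfsg.Agent.Lib.Helper42.Sp8

open Matrix QuadraticMap

variable {F : Type*} [Field F] [Fintype F]

/-- TM1 -/
theorem minus_torus_raw [CharP F 2] (j : ℕ) (hj : 0 < j) :
    ∃ (Q : QuadraticForm F (Fin (2 * j) → F)) (X : Matrix (Fin (2 * j)) (Fin (2 * j)) F),
      (polarBilin Q).Nondegenerate ∧ (∀ v, Q (X *ᵥ v) = Q v) ∧
      (∀ k : ℕ, X ^ k = 1 ↔ (Fintype.card F ^ j + 1) ∣ k) ∧
      (∀ k : ℕ, X ^ k ≠ 1 → ∀ v, (X ^ k) *ᵥ v = v → v = 0) := by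
  classical
  have : NeZero (2 * j) := ⟨by omega⟩
  let K := FiniteField.Extension F 2 (2 * j)
  have hK : Module.finrank F K = 2 * j := FiniteField.finrank_extension F 2 (2 * j)
  have : Fintype K := Fintype.ofFinite K
  have hK2 : CharP K 2 := charP_of_injective_algebraMap (algebraMap F K).injective 2
  have hq : 2 ≤ Fintype.card F := Fintype.one_lt_card
  set q := Fintype.card F with hqdef
  have hcardK : Fintype.card K = q ^ (2 * j) := by
    rw [← Nat.card_eq_fintype_card, FiniteField.natCard_extension, Nat.card_eq_fintype_card]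
  let σ : K ≃ₐ[F] K := (FiniteField.frobeniusAlgEquivOfAlgebraic F K) ^ j
  have hσ : ∀ a, σ a = a ^ (q ^ j) := by
    intro a
    show ((FiniteField.frobeniusAlgEquivOfAlgebraic F K) ^ j) a = _
    rw [AlgEquiv.coe_pow, FiniteField.coe_frobeniusAlgEquivOfAlgebraic_iterate]
  have hσσ : ∀ a, σ (σ a) = a := by
    intro a
    rw [hσ, hσ, ← pow_mul, ← pow_add, ← two_mul, ← hcardK, FiniteField.pow_card]
  obtain ⟨ζ, hζ⟩ := IsCyclic.exists_generator (α := Kˣ)
  have hord : orderOf (ζ : K) = q ^ (2 * j) - 1 := by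
    rw [orderOf_units, orderOf_eq_card_of_forall_mem_zpowers hζ, Nat.card_units,
      Nat.card_eq_fintype_card, hcardK]
  have hQ : 2 ≤ q ^ j := le_trans hq (Nat.le_self_pow hj.ne' q)
  have hfac : q ^ (2 * j) - 1 = (q ^ j - 1) * (q ^ j + 1) := by
    rw [two_mul, pow_add]
    obtain ⟨t, ht⟩ : ∃ t, q ^ j = t + 1 := ⟨q ^ j - 1, by omega⟩
    rw [ht]
    simp only [Nat.add_sub_cancel]
    have : (t + 1) * (t + 1) = t * (t + 1 + 1) + 1 := by ring
    rw [this, Nat.add_sub_cancel]
  set a : K := (ζ : K) ^ (q ^ j - 1) with ha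
  have horda : orderOf a = q ^ j + 1 := by
    rw [ha, orderOf_pow_of_dvd (by omega) (by rw [hord, hfac]; exact dvd_mul_right _ _), hord, hfac,
      Nat.mul_div_cancel_left _ (by omega)]
  have ha1 : σ a * a = 1 := by
    rw [hσ, ← pow_succ, ← horda, pow_orderOf_eq_one]
  set θ : K := (ζ : K) with hθ
  have hθσ : σ θ = a * θ := by
    rw [hσ, ha, ← pow_succ, Nat.sub_add_cancel (by omega)]
  set c : K := θ + σ θ with hc
  have hc0 : c ≠ 0 := by
    intro h0
    have h1 : θ = σ θ := CharTwo.add_eq_zero.1 h0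
    rw [hθσ] at h1
    have h2 : a = 1 := by
      have : a * θ = 1 * θ := by rw [one_mul]; exact h1.symm
      exact mul_right_cancel₀ (Units.ne_zero ζ) this
    rw [h2, orderOf_one] at horda
    omega
  let β : LinearMap.BilinForm F K :=
    (Algebra.traceForm F K).comp ((Algebra.lmul F K θ).comp σ.toLinearMap) LinearMap.id
  have hβ : ∀ x y, β x y = Algebra.trace F K (θ * σ x * y) := fun x y => rfl
  let Q₀ : QuadraticForm F K := LinearMap.BilinMap.toQuadraticMap β
  have hQ₀ : ∀ x, Q₀ x = Algebra.trace F K (θ * σ x * x) := fun x => rfl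
  have hpol : ∀ x y, polar Q₀ x y = Algebra.trace F K (c * σ x * y) := by
    intro x y
    rw [LinearMap.BilinMap.polar_toQuadraticMap, hβ, hβ,
      ← Algebra.trace_eq_of_algEquiv σ (θ * σ y * x), map_mul σ, map_mul σ, hσσ, ← map_add]
    congr 1
    rw [hc]; ring
  let b : Module.Basis (Fin (2 * j)) F K := Module.finBasisOfFinrankEq F K hK
  let L : (Fin (2 * j) → F) ≃ₗ[F] K := b.equivFun.symm
  have hL : ∀ (z : K) (v : Fin (2 * j) → F), L (Algebra.leftMulMatrix b z *ᵥ v) = z * L v := by
    intro z v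
    have h1 : ⇑(b.repr (L v)) = v := by
      rw [← Module.Basis.equivFun_apply]
      exact b.equivFun.apply_symm_apply v
    have h2 := Algebra.leftMulMatrix_mulVec_repr b z (L v)
    rw [h1] at h2
    rw [h2, ← Module.Basis.equivFun_apply]
    exact b.equivFun.symm_apply_apply _
  have hpow : ∀ k : ℕ, (Algebra.leftMulMatrix b a) ^ k = Algebra.leftMulMatrix b (a ^ k) := by
    intro k; exact (map_pow (Algebra.leftMulMatrix b) a k).symm
  have hone : ∀ k : ℕ, (Algebra.leftMulMatrix b a) ^ k = 1 ↔ a ^ k = 1 := by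
    intro k
    rw [hpow]
    constructor
    · intro h
      apply Algebra.leftMulMatrix_injective b
      rw [h, map_one]
    · intro h
      rw [h, map_one]
  refine ⟨Q₀.comp L.toLinearMap, Algebra.leftMulMatrix b a, ?_, ?_, ?_, ?_⟩
  · have hsep : ∀ x, (∀ y, polar (Q₀.comp L.toLinearMap) x y = 0) → x = 0 := by
      intro x hx
      have h1 : c * σ (L x) = 0 := by
        apply (traceForm_nondegenerate F K).1
        intro y
        have h2 := hx (L.symm y)
        have h3 : polar (Q₀.comp L.toLinearMap) x (L.symm y) = polar Q₀ (L x) y := by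
          simp only [polar, QuadraticMap.comp_apply, LinearEquiv.coe_coe, map_add,
            LinearEquiv.apply_symm_apply]
        rw [h3, hpol] at h2
        exact h2
      have h4 : σ (L x) = 0 := (mul_eq_zero.1 h1).resolve_left hc0
      have h5 : L x = 0 := (map_eq_zero σ).mp h4
      exact (map_eq_zero_iff L L.injective).1 h5
    refine ⟨fun x hx => hsep x hx, fun x hx => hsep x fun y => ?_⟩
    rw [polar_comm]; exact hx y
  · intro v
    rw [QuadraticMap.comp_apply, QuadraticMap.comp_apply]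
    show Q₀ (L _) = Q₀ (L v)
    rw [hL, hQ₀, hQ₀, map_mul σ]
    congr 1
    linear_combination (θ * σ (L v) * L v) * ha1
  · intro k
    rw [hone, ← horda, orderOf_dvd_iff_pow_eq_one]
  · intro k hk v hv
    rw [hpow] at hv
    have h1 : a ^ k ≠ 1 := fun h => hk ((hone k).2 h)
    have h2 := congrArg L hv
    rw [hL] at h2
    have h3 : (a ^ k - 1) * L v = 0 := by rw [sub_mul, one_mul, h2, sub_self]
    have h4 : L v = 0 := (mul_eq_zero.1 h3).resolve_left (sub_ne_zero.2 h1)
    exact (map_eq_zero_iff L L.injective).1 h4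

end Cfsg.Agent.Lib.Helper42.Sp8
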