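import Cfsg.Agent.Lib.Helper42.Sp8.Defs

set_option autoImplicit false

namespace Cfsg.Agent.Lib.Helper42.Sp8

open Matrix QuadraticMap Cfsg.Agent.Lib.Helper44 Cfsg.Agent.Lib.Helper43.PO
  Cfsg.Agent.Lib.Helper38.QCnt Cfsg.Agent.Lib.Helper42.SpecPSp

variable {F : Type*} [Field F] [Fintype F]

theorem TM2_pow_iso {ι : Type} [Fintype ι] [DecidableEq ι] (Q : QuadraticForm F (ι → F))
    (X : Matrix ι ι F) (hX : ∀ v, Q (X *ᵥ v) = Q v) (k : ℕ) (v : ι → F) :
    Q ((X ^ k) *ᵥ v) = Q v := by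
  induction k with
  | zero => simp
  | succ k ih => rw [pow_succ', ← mulVec_mulVec, hX, ih]

/-- a fixed-point-free isometry of prime order `r ∣ q^j + 1` forces the minus type (`q` even). -/
theorem TM2_exc_neg [CharP F 2] {ι : Type} [Fintype ι] [DecidableEq ι] {n : ℕ}
    (hι : Fintype.card ι = 2 * (n + 1)) (Q : QuadraticForm F (ι → F))
    (hQ : (polarBilin Q).Nondegenerate) (M : Matrix ι ι F) {r : ℕ} [Fact r.Prime]
    (hr : r ∣ Fintype.card F ^ (n + 1) + 1)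
    (hM : ∀ v, Q (M *ᵥ v) = Q v) (hMr : M ^ r = 1) (hfix : ∀ v, M *ᵥ v = v → v = 0) :
    exc ⇑Q < 0 := by
  have hrp : r.Prime := Fact.out
  have hrq : ¬ r ∣ Fintype.card F := by
    intro h
    have h1 : r ∣ Fintype.card F ^ (n + 1) := dvd_pow h (by omega)
    have h2 : r ∣ 1 := (Nat.dvd_add_right h1).1 hr
    exact hrp.one_lt.ne' (Nat.dvd_one.1 h2)
  have h2q : 2 ∣ Fintype.card F := by
    obtain ⟨k, -, hk⟩ := FiniteField.card F 2
    rw [hk]
    exact dvd_pow_self 2 k.ne_zero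
  have h := pow_eq_of_fpf hι Q hQ M hrq hM hMr hfix
  rcases exc_ne_zero hι Q hQ with hpos | hneg
  · exfalso
    have h1 := h.1 hpos
    have h2 : ((Fintype.card F ^ (n + 1) + 1 : ℕ) : ZMod r) = 0 :=
      (ZMod.natCast_eq_zero_iff _ _).2 hr
    push_cast at h2
    rw [h1] at h2
    have h3 : ((2 : ℕ) : ZMod r) = 0 := by
      push_cast
      rw [← h2]; norm_num
    have h4 : r ∣ 2 := (ZMod.natCast_eq_zero_iff _ _).1 h3
    exact hrq (h4.trans h2q)
  · exact hneg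

/-- TM2 -/
theorem realQ_minus_of_raw [CharP F 2] (j : ℕ) (hj : 0 < j)
    (Q : QuadraticForm F (Fin (2 * j) → F)) (X : Matrix (Fin (2 * j)) (Fin (2 * j)) F)
    (hQ : (polarBilin Q).Nondegenerate) (hX : ∀ v, Q (X *ᵥ v) = Q v)
    (hk : ∀ k : ℕ, X ^ k = 1 ↔ (Fintype.card F ^ j + 1) ∣ k)
    (hfix : ∀ k : ℕ, X ^ k ≠ 1 → ∀ v, (X ^ k) *ᵥ v = v → v = 0) :
    RealQ F j true (Fintype.card F ^ j + 1) := by
  classical
  have hq : 2 ≤ Fintype.card F := Fintype.one_lt_card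
  have hN1 : Fintype.card F ^ j + 1 ≠ 1 := by
    have : 0 < Fintype.card F ^ j := pow_pos (by omega) _
    omega
  have hr : (Fintype.card F ^ j + 1).minFac.Prime := Nat.minFac_prime hN1
  haveI : Fact (Fintype.card F ^ j + 1).minFac.Prime := ⟨hr⟩
  obtain ⟨t, ht⟩ := Nat.minFac_dvd (Fintype.card F ^ j + 1)
  set r := (Fintype.card F ^ j + 1).minFac with hrdef
  have hMr : (X ^ t) ^ r = 1 := by
    rw [← pow_mul, hk, mul_comm, ← ht]
  have hM1 : X ^ t ≠ 1 := by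
    intro h
    have h1 := (hk t).1 h
    rw [ht] at h1
    have ht0 : 0 < t := by
      rcases Nat.eq_zero_or_pos t with h0 | h0
      · rw [h0, mul_zero] at ht; omega
      · exact h0
    have h2 := Nat.le_of_dvd ht0 h1
    have h3 := hr.two_le
    nlinarith
  obtain ⟨n, rfl⟩ : ∃ n, j = n + 1 := ⟨j - 1, by omega⟩
  have hι : Fintype.card (Fin (2 * (n + 1))) = 2 * (n + 1) := by simp
  have hneg := TM2_exc_neg hι Q hQ (X ^ t) (r := r) (Nat.minFac_dvd _) (TM2_pow_iso Q X hX t) hMr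
    (hfix t hM1)
  exact ⟨Fin (2 * (n + 1)), inferInstance, inferInstance, Q, X, hj, Nat.succ_pos _, hι, hQ,
    fun _ => hneg, fun h => by simp at h, hX, hk⟩

end Cfsg.Agent.Lib.Helper42.Sp8
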