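import Cfsg.Agent.Lib.Helper42.Sp8.Defs2
import Cfsg.Agent.Lib.Helper42.Sp8.TM1
import Cfsg.Agent.Lib.Helper42.Sp8.TM2

set_option autoImplicit false

namespace Cfsg.Agent.Lib.Helper42.Sp8

open Matrix QuadraticMap Cfsg.Agent.Lib.Helper44 Cfsg.Agent.Lib.Helper43.PO
  Cfsg.Agent.Lib.Helper38.QCnt Cfsg.Agent.Lib.Helper42.SpecPSp

variable {F : Type*} [Field F] [Fintype F]

theorem ATM_exc_neg [CharP F 2] (j : ℕ) (hj : 0 < j)
    (Q : QuadraticForm F (Fin (2 * j) → F)) (X : Matrix (Fin (2 * j)) (Fin (2 * j)) F)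
    (hQ : (polarBilin Q).Nondegenerate) (hX : ∀ v, Q (X *ᵥ v) = Q v)
    (hk : ∀ k : ℕ, X ^ k = 1 ↔ (Fintype.card F ^ j + 1) ∣ k)
    (hfix : ∀ k : ℕ, X ^ k ≠ 1 → ∀ v, (X ^ k) *ᵥ v = v → v = 0) :
    exc ⇑Q < 0 := by
  classical
  have hq : 2 ≤ Fintype.card F := Fintype.one_lt_card
  have hN1 : Fintype.card F ^ j + 1 ≠ 1 := by
    have : 0 < Fintype.card F ^ j := pow_pos (by omega) _
    omega
  have hr : (Fintype.card F ^ j + 1).minFac.Prime := Nat.minFac_prime hN1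
  have : Fact (Fintype.card F ^ j + 1).minFac.Prime := ⟨hr⟩
  obtain ⟨t, ht⟩ := Nat.minFac_dvd (Fintype.card F ^ j + 1)
  set r := (Fintype.card F ^ j + 1).minFac with hrdef
  have hMr : (X ^ t) ^ r = 1 := by
    rw [← pow_mul, hk, mul_comm, ← ht]
  have hM1 : X ^ t ≠ 1 := by
    intro h
    have h1 := (hk t).1 h
    rw [ht] at h1
    have ht0 : 0 < t := by
      rcases Nat.eq_zero_or_pos t with h0 | h0
      · rw [h0, mul_zero] at ht; omega
      · exact h0
    have h2 := Nat.le_of_dvd ht0 h1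
    have h3 := hr.two_le
    nlinarith
  obtain ⟨n, rfl⟩ : ∃ n, j = n + 1 := ⟨j - 1, by omega⟩
  have hι : Fintype.card (Fin (2 * (n + 1))) = 2 * (n + 1) := by simp
  exact TM2_exc_neg hι Q hQ (X ^ t) (r := r) (Nat.minFac_dvd _) (TM2_pow_iso Q X hX t) hMr
    (hfix t hM1)

/-- ATM -/
theorem realA_minus_torus [CharP F 2] (j : ℕ) (hj : 0 < j) :
    RealA F j true false (Fintype.card F ^ j + 1) := by
  obtain ⟨Q, X, hQ, hX, hk, hfix⟩ := minus_torus_raw (F := F) j hj
  have hneg := ATM_exc_neg j hj Q X hQ hX hk hfix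
  have hq : 2 ≤ Fintype.card F := Fintype.one_lt_card
  have hX1 : X ^ 1 ≠ 1 := by
    intro h
    have h1 := (hk 1).1 h
    have h2 := Nat.le_of_dvd one_pos h1
    have : 0 < Fintype.card F ^ j := pow_pos (by omega) _
    omega
  have hinj : Function.Injective (X - 1).mulVecLin := by
    rw [← LinearMap.ker_eq_bot, LinearMap.ker_eq_bot']
    intro v hv
    rw [Matrix.mulVecLin_apply, Matrix.sub_mulVec, Matrix.one_mulVec, sub_eq_zero] at hv
    exact hfix 1 hX1 v (by rw [pow_one]; exact hv)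
  have hrank : (X - 1).rank = 2 * j := by
    rw [Matrix.rank, LinearMap.finrank_range_of_inj hinj, Module.finrank_fintype_fun_eq_card, Fintype.card_fin]
  refine ⟨Fin (2 * j), inferInstance, inferInstance, Q, X, 0, hj, Nat.succ_pos _, by simp, hQ,
    fun _ => hneg, fun h => by simp at h, hX, fun h => by simp at h, fun _ => ?_, ?_⟩
  · rw [hrank]
    exact even_two_mul j
  · intro k
    rw [Matrix.mulVec_zero, hk]
    simp

end Cfsg.Agent.Lib.Helper42.Sp8
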