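import Cfsg.Agent.Lib.Helper42.Sp8.Defs

set_option autoImplicit false

namespace Cfsg.Agent.Lib.Helper42.Sp8

open Matrix QuadraticMap Cfsg.Agent.Lib.Helper44 Cfsg.Agent.Lib.Helper43.PO
  Cfsg.Agent.Lib.Helper38.QCnt Cfsg.Agent.Lib.Helper42.SpecPSp

variable {F : Type*} [Field F] [Fintype F]

/-- a Singer cycle. -/
lemma TP_singer (d : ℕ) (hd : 0 < d) : ∃ A A' : Matrix (Fin d) (Fin d) F, A * A' = 1 ∧
    ∀ j : ℕ, A ^ j = 1 ↔ Fintype.card F ^ d - 1 ∣ j := by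
  classical
  obtain ⟨p, hp⟩ := CharP.exists F
  have : Fact p.Prime := ⟨CharP.char_is_prime F p⟩
  have : NeZero d := ⟨hd.ne'⟩
  let K := FiniteField.Extension F p d
  have hK : Module.finrank F K = d := FiniteField.finrank_extension F p d
  let b := Module.finBasisOfFinrankEq F K hK
  let Ψ : K →ₐ[F] Matrix (Fin d) (Fin d) F := Algebra.leftMulMatrix b
  have hΨ : Function.Injective Ψ := Algebra.leftMulMatrix_injective b
  have : Fintype K := Fintype.ofFinite K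
  have hcardK : Nat.card K = Fintype.card F ^ d := by
    rw [FiniteField.natCard_extension, Nat.card_eq_fintype_card]
  obtain ⟨ζ, hζ⟩ := IsCyclic.exists_generator (α := Kˣ)
  have hord : orderOf (ζ : K) = Fintype.card F ^ d - 1 := by
    rw [orderOf_units, orderOf_eq_card_of_forall_mem_zpowers hζ, Nat.card_units, hcardK]
  refine ⟨Ψ (ζ : K), Ψ ((ζ⁻¹ : Kˣ) : K), ?_, ?_⟩
  · rw [← map_mul, Units.mul_inv, map_one]
  · intro j
    rw [← hord, orderOf_dvd_iff_pow_eq_one, ← map_pow]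
    constructor
    · intro h
      apply hΨ
      rw [h, map_one]
    · intro h
      rw [h, map_one]

omit [Fintype F] in
lemma TP_pow {d : ℕ} (A D : Matrix (Fin d) (Fin d) F) (j : ℕ) :
    (fromBlocks A 0 0 D) ^ j = fromBlocks (A ^ j) 0 0 (D ^ j) := by
  induction j with
  | zero => simp
  | succ j ih =>
    rw [pow_succ, ih, fromBlocks_multiply]
    simp [pow_succ]

omit [Fintype F] in
lemma TP_pow_eq_one {d : ℕ} (A A' : Matrix (Fin d) (Fin d) F) (h : A * A' = 1) (j : ℕ) :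
    (fromBlocks A 0 0 A'ᵀ) ^ j = 1 ↔ A ^ j = 1 := by
  rw [TP_pow, ← fromBlocks_one, fromBlocks_inj]
  constructor
  · intro h; exact h.1
  · intro hj
    refine ⟨hj, rfl, rfl, ?_⟩
    have hc : Commute A A' := by
      show A * A' = A' * A
      rw [h, mul_eq_one_comm.1 h]
    have h1 : A ^ j * A' ^ j = 1 := by rw [← hc.mul_pow, h, one_pow]
    rw [hj, one_mul] at h1
    rw [← transpose_pow, h1, transpose_one]

omit [Fintype F] in
lemma TP_sum {d : ℕ} (A A' : Matrix (Fin d) (Fin d) F) (h : A * A' = 1) (v : Fin d ⊕ Fin d → F) :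
    ∑ i : Fin d, (fromBlocks A 0 0 A'ᵀ *ᵥ v) (.inl i) * (fromBlocks A 0 0 A'ᵀ *ᵥ v) (.inr i) =
      ∑ i : Fin d, v (.inl i) * v (.inr i) := by
  rw [fromBlocks_mulVec]
  simp only [Sum.elim_inl, Sum.elim_inr, zero_mulVec, add_zero, zero_add]
  show (A *ᵥ (v ∘ Sum.inl)) ⬝ᵥ (A'ᵀ *ᵥ (v ∘ Sum.inr)) = (v ∘ Sum.inl) ⬝ᵥ (v ∘ Sum.inr)
  rw [Matrix.dotProduct_mulVec, Matrix.vecMul_transpose, Matrix.mulVec_mulVec, mul_eq_one_comm.1 h,
    Matrix.one_mulVec]

/-- TP -/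
theorem realQ_plus_torus (d : ℕ) (hd : 0 < d) : RealQ F d false (Fintype.card F ^ d - 1) := by
  obtain ⟨A, A', hAA, hA⟩ := TP_singer (F := F) d hd
  obtain ⟨n, rfl⟩ : ∃ n, d = n + 1 := ⟨d - 1, by omega⟩
  refine ⟨Fin (n + 1) ⊕ Fin (n + 1), inferInstance, inferInstance, plusQF (n + 1) F,
    fromBlocks A 0 0 A'ᵀ, hd, ?_, ?_, plusQF_nondeg (n + 1) F, ?_, ?_, ?_, ?_⟩
  · have h1 : 2 ≤ Fintype.card F := Fintype.one_lt_card
    have h2 : 2 ^ (n + 1) ≤ Fintype.card F ^ (n + 1) := Nat.pow_le_pow_left h1 _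
    have h3 : 2 ≤ 2 ^ (n + 1) := by
      calc 2 = 2 ^ 1 := rfl
        _ ≤ 2 ^ (n + 1) := Nat.pow_le_pow_right (by norm_num) (by omega)
    omega
  · rw [Fintype.card_sum, Fintype.card_fin]; ring
  · intro h; exact absurd h (by decide)
  · intro _
    rw [exc_plus]
    exact card_pow_mul_pos n
  · intro v
    rw [plusQF_apply, plusQF_apply, TP_sum A A' hAA]
  · intro j
    rw [TP_pow_eq_one A A' hAA, hA]

end Cfsg.Agent.Lib.Helper42.Sp8
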