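import Cfsg.Agent.Lib.Helper42.Sp8.Defs2
import Cfsg.Agent.Lib.Helper42.Sp8.TP
import Cfsg.Agent.Lib.Helper44.JType1

set_option autoImplicit false

namespace Cfsg.Agent.Lib.Helper42.Sp8

open Matrix QuadraticMap Cfsg.Agent.Lib.Helper44 Cfsg.Agent.Lib.Helper43.PO
  Cfsg.Agent.Lib.Helper38.QCnt Cfsg.Agent.Lib.Helper42.SpecPSp

variable {F : Type*} [Field F] [Fintype F]

omit [Fintype F] in
lemma ATP_rank {d : ℕ} (A A' : Matrix (Fin d) (Fin d) F) (h : A * A' = 1) :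
    (A'ᵀ - 1).rank = (A - 1).rank := by
  have h' : A' * A = 1 := mul_eq_one_comm.1 h
  have e : A'ᵀ - 1 = ((-A') * (A - 1))ᵀ := by
    rw [mul_sub, mul_one, neg_mul, h', transpose_sub, transpose_neg, transpose_neg, transpose_one]
    abel
  have hu : IsUnit (-A').det := by
    have : (-A').det * (-A).det = 1 := by rw [← det_mul, neg_mul_neg, h', det_one]
    exact IsUnit.of_mul_eq_one _ this
  rw [e, rank_transpose, rank_mul_eq_right_of_isUnit_det _ _ hu]

/-- ATP -/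
theorem realA_plus_torus (d : ℕ) (hd : 0 < d) :
    RealA F d false false (Fintype.card F ^ d - 1) := by
  obtain ⟨A, A', hAA, hA⟩ := TP_singer (F := F) d hd
  obtain ⟨n, rfl⟩ : ∃ n, d = n + 1 := ⟨d - 1, by omega⟩
  refine ⟨Fin (n + 1) ⊕ Fin (n + 1), inferInstance, inferInstance, plusQF (n + 1) F,
    fromBlocks A 0 0 A'ᵀ, 0, hd, ?_, ?_, plusQF_nondeg (n + 1) F, ?_, ?_, ?_, ?_, ?_, ?_⟩
  · have h1 : 2 ≤ Fintype.card F := Fintype.one_lt_card
    have h2 : 2 ^ (n + 1) ≤ Fintype.card F ^ (n + 1) := Nat.pow_le_pow_left h1 _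
    have h3 : 2 ≤ 2 ^ (n + 1) := by
      calc 2 = 2 ^ 1 := rfl
        _ ≤ 2 ^ (n + 1) := Nat.pow_le_pow_right (by norm_num) (by omega)
    omega
  · rw [Fintype.card_sum, Fintype.card_fin]; ring
  · intro h; exact absurd h (by decide)
  · intro _
    rw [exc_plus]
    exact card_pow_mul_pos n
  · intro v
    rw [plusQF_apply, plusQF_apply, TP_sum A A' hAA]
  · intro h; exact absurd h (by decide)
  · intro _
    have e : fromBlocks A 0 0 A'ᵀ - 1 = fromBlocks (A - 1) 0 0 (A'ᵀ - 1) := by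
      rw [← fromBlocks_one, sub_eq_add_neg, fromBlocks_neg, fromBlocks_add]
      simp [sub_eq_add_neg]
    rw [e, rank_fromBlocks_diag, ATP_rank A A' hAA]
    exact ⟨_, rfl⟩
  · intro j
    rw [TP_pow_eq_one A A' hAA, hA, Matrix.mulVec_zero]
    simp

end Cfsg.Agent.Lib.Helper42.Sp8
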