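import Cfsg.Agent.Lib.Helper42.Sp8.Defs

set_option autoImplicit false
set_option linter.unusedSectionVars false

namespace Cfsg.Agent.Lib.Helper42.Sp8

open Matrix Polynomial Module
open Cfsg.Agent.Lib.Helper42.SpecPSL Cfsg.Agent.Lib.Helper42.SpecPSp

variable {F : Type*} [Field F] [Fintype F]

theorem bad1_two [CharP F 2] {n : ℕ} (hn : 0 < n)
    (X : Matrix (Fin n ⊕ Fin n) (Fin n ⊕ Fin n) F) (hX : adj X * X = 1) (f : Polynomial F)
    (hf : Irreducible f) (e : ℕ) (h : (Polynomial.aeval X f) ^ e = 0) :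
    X ^ (2 ^ Nat.clog 2 (2 * n)) = 1 ∨
    ∃ j D, j * D = n ∧ X ^ ((Fintype.card F ^ j + 1) * 2 ^ Nat.clog 2 D) = 1 := by
  classical
  have : Fact (Nat.Prime 2) := ⟨Nat.prime_two⟩
  have hp1 : 1 < 2 := by norm_num
  have : Nonempty (Fin n ⊕ Fin n) := ⟨Sum.inl ⟨0, hn⟩⟩
  have : Fact (Irreducible f) := ⟨hf⟩
  have hcard : Fintype.card (Fin n ⊕ Fin n) = 2 * n := by simp; ring
  set Y := X ^ (Fintype.card F ^ e) with hYdef
  have hY : aeval Y f = 0 := bad_pow' X f e h
  obtain ⟨φ, hφinj, hφ, D, h4⟩ := irr_model' f Y hY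
  have : Module.Finite F (AdjoinRoot f) := (AdjoinRoot.powerBasis hf.ne_zero).finite
  have : Finite (AdjoinRoot f) := Module.finite_of_finite F
  set y := AdjoinRoot.root f with hy
  have hX' : X * adj X = 1 := mul_eq_one_comm.mp hX
  have hU : adj Y * Y = 1 := by
    have hcomm : Commute (adj X) X := by
      show _ * _ = _ * _
      rw [hX, hX']
    rw [hYdef, adj_pow, ← hcomm.mul_pow, hX, one_pow]
  have hU' : Y * adj Y = 1 := mul_eq_one_comm.mp hU
  have hy0 : y ≠ 0 := by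
    intro h0
    rw [h0, map_zero] at hφ
    rw [← hφ, mul_zero] at hU
    exact zero_ne_one hU
  have hinv : φ y⁻¹ = adj Y := by
    have h1 : φ y⁻¹ * Y = 1 := by rw [← hφ, ← map_mul, inv_mul_cancel₀ hy0, map_one]
    calc φ y⁻¹ = φ y⁻¹ * (Y * adj Y) := by rw [hU', mul_one]
      _ = adj Y := by rw [← mul_assoc, h1, one_mul]
  have hroot : f.eval₂ (Algebra.ofId F (AdjoinRoot f)) y⁻¹ = 0 := by
    apply hφinj
    have : f.eval₂ (Algebra.ofId F (AdjoinRoot f)) y⁻¹ = aeval y⁻¹ f := rfl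
    rw [this, ← Polynomial.aeval_algHom_apply, hinv, ← adj_aeval, hY, adj_zero, map_zero]
  let τ : AdjoinRoot f →ₐ[F] AdjoinRoot f := AdjoinRoot.liftAlgHom f (Algebra.ofId F _) y⁻¹ hroot
  have hτy : τ y = y⁻¹ := AdjoinRoot.liftAlgHom_root f _ _ hroot
  have hττ : ∀ a, τ (τ a) = a := by
    have : τ.comp τ = AlgHom.id F _ := by
      apply AdjoinRoot.algHom_ext
      show τ (τ y) = y
      rw [hτy, map_inv₀, hτy, inv_inv]
    intro a
    exact congrArg (fun g : AdjoinRoot f →ₐ[F] AdjoinRoot f => g a) this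
  have hd : 0 < f.natDegree := hf.natDegree_pos
  rcases invol_field' τ hττ with h1 | ⟨j, hj, h1⟩
  · left
    have hy2 : y ^ 2 = 1 := by
      have := h1 y
      rw [hτy] at this
      rw [sq]
      nth_rewrite 1 [← this]
      exact inv_mul_cancel₀ hy0
    have h2 : (2 : AdjoinRoot f) = 0 := by
      have h2F : (2 : F) = 0 := CharTwo.two_eq_zero
      have := congrArg (algebraMap F (AdjoinRoot f)) h2F
      rwa [map_ofNat, map_zero] at this
    have hy1 : y ^ 1 = 1 := by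
      have h3 : (y - 1) ^ 2 = 0 := by linear_combination hy2 + (1 - y) * h2
      have h4 : y - 1 = 0 := by simpa using h3
      rw [pow_one]
      exact sub_eq_zero.mp h4
    have := pow_eq_one_of_local 2 X f hf e h 1 (dvd_of_root_pow f 1 hy1) (2 * n)
      (Nat.clog 2 (2 * n)) (by rw [hcard]; exact Nat.le_mul_of_pos_left _ hd)
      (Nat.le_pow_clog hp1 _)
    rwa [one_mul] at this
  · right
    refine ⟨j, D, ?_, ?_⟩
    · rw [hj, hcard, mul_assoc] at h4
      omega
    · have hy2 : y ^ (Fintype.card F ^ j + 1) = 1 := by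
        rw [pow_succ, ← h1, hτy, inv_mul_cancel₀ hy0]
      apply pow_eq_one_of_local 2 X f hf e h _ (dvd_of_root_pow f _ hy2) D _ _
        (Nat.le_pow_clog hp1 _)
      rw [← finrank_adjoinRoot f hf, h4]

end Cfsg.Agent.Lib.Helper42.Sp8
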