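import Mathlib
import Cfsg.Agent.Lib.Helper42.SpecPSp4

set_option autoImplicit false

namespace Cfsg.Agent.Lib.Helper42.Sp8

open Matrix QuadraticMap Cfsg.Agent.Lib.Helper42.SpecPSp

variable {F : Type*} [Field F] [Fintype F]

omit [Fintype F] in
theorem BLK_part {ι : Type} [Fintype ι] [DecidableEq ι] (Q : QuadraticForm F (ι → F))
    (hQ : (polarBilin Q).Nondegenerate) (A e : Matrix ι ι F) (hA : ∀ v, Q (A *ᵥ v) = Q v)
    (hc : Commute e A) (hs : ∀ x y, polar Q (e *ᵥ x) y = polar Q x (e *ᵥ y)) {k : ℕ}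
    (C : Matrix ι (Fin k) F) (D : Matrix (Fin k) ι F) (hCD : C * D = e) (hDC : D * C = 1) :
    (polarBilin (Q.comp (Matrix.mulVecLin C))).Nondegenerate ∧
      ∀ v, (Q.comp (Matrix.mulVecLin C)) ((D * A * C) *ᵥ v) = (Q.comp (Matrix.mulVecLin C)) v := by
  have heC : e * C = C := by rw [← hCD, Matrix.mul_assoc, hDC, Matrix.mul_one]
  have hpol : ∀ u u', polar (Q.comp (Matrix.mulVecLin C)) u u' = polar Q (C *ᵥ u) (C *ᵥ u') := by
    intro u u'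
    unfold QuadraticMap.polar
    simp only [QuadraticMap.comp_apply, Matrix.mulVecLin_apply, Matrix.mulVec_add]
  have key : ∀ u, (∀ u', polar Q (C *ᵥ u) (C *ᵥ u') = 0) → u = 0 := by
    intro u h
    have h1 : ∀ y, polar Q (C *ᵥ u) y = 0 := by
      intro y
      have h2 : C *ᵥ u = e *ᵥ (C *ᵥ u) := by rw [Matrix.mulVec_mulVec, heC]
      rw [h2, hs, ← hCD, ← Matrix.mulVec_mulVec]
      exact h (D *ᵥ y)
    have h3 : C *ᵥ u = 0 := hQ.1 (C *ᵥ u) (fun y => by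
      rw [polarBilin_apply_apply]; exact h1 y)
    have h4 : u = (D * C) *ᵥ u := by rw [hDC, Matrix.one_mulVec]
    rw [h4, ← Matrix.mulVec_mulVec, h3, Matrix.mulVec_zero]
  refine ⟨⟨?_, ?_⟩, ?_⟩
  · intro u h
    apply key
    intro u'
    have := h u'
    rwa [polarBilin_apply_apply, hpol] at this
  · intro u h
    apply key
    intro u'
    have := h u'
    rwa [polarBilin_apply_apply, hpol, polar_comm] at this
  · intro v
    simp only [QuadraticMap.comp_apply, Matrix.mulVecLin_apply]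
    have h5 : C *ᵥ ((D * A * C) *ᵥ v) = A *ᵥ (C *ᵥ v) := by
      rw [Matrix.mulVec_mulVec, Matrix.mulVec_mulVec, ← Matrix.mul_assoc, ← Matrix.mul_assoc, hCD,
        hc.eq, Matrix.mul_assoc, heC]
    rw [h5, hA]

/-- BLK -/
theorem block_decomp {ι : Type} [Fintype ι] [DecidableEq ι] (Q : QuadraticForm F (ι → F))
    (hQ : (polarBilin Q).Nondegenerate) (A E : Matrix ι ι F) (hA : ∀ v, Q (A *ᵥ v) = Q v)
    (hE : E * E = E) (hc : Commute E A)
    (hs : ∀ x y, polar Q (E *ᵥ x) y = polar Q x (E *ᵥ y)) :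
    ∃ (k₁ k₂ : ℕ) (Q₁ : QuadraticForm F (Fin k₁ → F)) (Q₂ : QuadraticForm F (Fin k₂ → F))
      (A₁ : Matrix (Fin k₁) (Fin k₁) F) (A₂ : Matrix (Fin k₂) (Fin k₂) F)
      (P : Matrix ι (Fin k₁ ⊕ Fin k₂) F) (P' : Matrix (Fin k₁ ⊕ Fin k₂) ι F),
      P * P' = 1 ∧ P' * P = 1 ∧ P' * A * P = fromBlocks A₁ 0 0 A₂ ∧
      P' * E * P = fromBlocks 0 0 0 1 ∧
      (polarBilin Q₁).Nondegenerate ∧ (polarBilin Q₂).Nondegenerate ∧
      (∀ v, Q₁ (A₁ *ᵥ v) = Q₁ v) ∧ (∀ v, Q₂ (A₂ *ᵥ v) = Q₂ v) := by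
  have hE1 : (1 - E) * (1 - E) = 1 - E := by
    rw [mul_sub, sub_mul, sub_mul, hE]
    simp
  have he1 : E * (1 - E) = 0 := by rw [mul_sub, mul_one, hE, sub_self]
  have he2 : (1 - E) * E = 0 := by rw [sub_mul, one_mul, hE, sub_self]
  obtain ⟨k₁, C₁, D₁, hCD₁, hDC₁⟩ := idem_factor' (1 - E) hE1
  obtain ⟨k₂, C₂, D₂, hCD₂, hDC₂⟩ := idem_factor' E hE
  have hc1 : Commute (1 - E) A := (Commute.one_left A).sub_left hc
  have hs1 : ∀ x y, polar Q ((1 - E) *ᵥ x) y = polar Q x ((1 - E) *ᵥ y) := by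
    intro x y
    rw [Matrix.sub_mulVec, Matrix.sub_mulVec, Matrix.one_mulVec, Matrix.one_mulVec,
      polar_sub_left, polar_sub_right, hs]
  obtain ⟨hn1, hi1⟩ := BLK_part Q hQ A (1 - E) hA hc1 hs1 C₁ D₁ hCD₁ hDC₁
  obtain ⟨hn2, hi2⟩ := BLK_part Q hQ A E hA hc hs C₂ D₂ hCD₂ hDC₂
  have heC₁ : (1 - E) * C₁ = C₁ := by rw [← hCD₁, Matrix.mul_assoc, hDC₁, Matrix.mul_one]
  have hDe₁ : D₁ * (1 - E) = D₁ := by rw [← hCD₁, ← Matrix.mul_assoc, hDC₁, Matrix.one_mul]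
  have heC₂ : E * C₂ = C₂ := by rw [← hCD₂, Matrix.mul_assoc, hDC₂, Matrix.mul_one]
  have hDe₂ : D₂ * E = D₂ := by rw [← hCD₂, ← Matrix.mul_assoc, hDC₂, Matrix.one_mul]
  -- vanishing of mixed products
  have z12 : ∀ X : Matrix ι ι F, Commute E X → D₁ * X * C₂ = 0 := by
    intro X hX
    rw [← hDe₁, ← heC₂, Matrix.mul_assoc, Matrix.mul_assoc, ← Matrix.mul_assoc X, ← hX.eq,
      Matrix.mul_assoc E, ← Matrix.mul_assoc (1 - E), he2, Matrix.zero_mul, Matrix.mul_zero]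
  have z21 : ∀ X : Matrix ι ι F, Commute E X → D₂ * X * C₁ = 0 := by
    intro X hX
    rw [← hDe₂, ← heC₁, Matrix.mul_assoc, Matrix.mul_assoc, ← Matrix.mul_assoc X,
      ← ((Commute.one_left X).sub_left hX).eq,
      Matrix.mul_assoc (1 - E), ← Matrix.mul_assoc E, he1, Matrix.zero_mul, Matrix.mul_zero]
  refine ⟨k₁, k₂, Q.comp (Matrix.mulVecLin C₁), Q.comp (Matrix.mulVecLin C₂), D₁ * A * C₁,
    D₂ * A * C₂, fromCols C₁ C₂, fromRows D₁ D₂, ?_, ?_, ?_, ?_, hn1, hn2, hi1, hi2⟩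
  · rw [fromCols_mul_fromRows, hCD₁, hCD₂]
    abel
  · rw [fromRows_mul_fromCols, hDC₁, hDC₂]
    have h1 := z12 1 (Commute.one_right E)
    have h2 := z21 1 (Commute.one_right E)
    rw [Matrix.mul_one] at h1 h2
    rw [h1, h2, fromBlocks_one]
  · rw [fromRows_mul, fromRows_mul_fromCols, z12 A hc, z21 A hc]
  · rw [fromRows_mul, fromRows_mul_fromCols, z12 E (Commute.refl E), z21 E (Commute.refl E),
      hDe₂, hDC₂]
    have h3 : D₁ * E * C₁ = 0 := by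
      rw [← hDe₁, Matrix.mul_assoc D₁, he2, Matrix.mul_zero, Matrix.zero_mul]
    rw [h3]

end Cfsg.Agent.Lib.Helper42.Sp8
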