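import Cfsg.Agent.Lib.Helper42.Sp8.Defs

set_option autoImplicit false

namespace Cfsg.Agent.Lib.Helper42.Sp8

open Matrix QuadraticMap Cfsg.Agent.Lib.Helper44 Cfsg.Agent.Lib.Helper43.PO
  Cfsg.Agent.Lib.Helper38.QCnt Cfsg.Agent.Lib.Helper42.SpecPSp

variable {F : Type*} [Field F] [Fintype F]

theorem SUM_pow {ι₁ ι₂ : Type} [Fintype ι₁] [DecidableEq ι₁] [Fintype ι₂] [DecidableEq ι₂]
    (X₁ : Matrix ι₁ ι₁ F) (X₂ : Matrix ι₂ ι₂ F) (j : ℕ) :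
    (fromBlocks X₁ 0 0 X₂) ^ j = fromBlocks (X₁ ^ j) 0 0 (X₂ ^ j) := by
  induction j with
  | zero => simp
  | succ k ih => rw [pow_succ, ih, fromBlocks_multiply]; simp [pow_succ]

/-- SUM -/
theorem realQ_sum (a b : ℕ) (s₁ s₂ : Bool) (M₁ M₂ : ℕ) (h₁ : RealQ F a s₁ M₁)
    (h₂ : RealQ F b s₂ M₂) : RealQ F (a + b) (xor s₁ s₂) (Nat.lcm M₁ M₂) := by
  obtain ⟨ι₁, _, _, Q₁, X₁, ha, hM₁, hc₁, hn₁, ht₁, hf₁, hX₁, hj₁⟩ := h₁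
  obtain ⟨ι₂, _, _, Q₂, X₂, hb, hM₂, hc₂, hn₂, ht₂, hf₂, hX₂, hj₂⟩ := h₂
  have hexc := exc_sum ⇑Q₁ ⇑Q₂ ⇑(sumQF Q₁ Q₂) (sumQF_apply Q₁ Q₂)
    (unif_of_nondeg (n := b - 1) (by omega) Q₂ hn₂)
  have hq : (0 : ℤ) < (Fintype.card F : ℤ) - 1 := by
    have : 2 ≤ Fintype.card F := Fintype.one_lt_card
    have : (2 : ℤ) ≤ (Fintype.card F : ℤ) := by exact_mod_cast this
    linarith
  refine ⟨ι₁ ⊕ ι₂, inferInstance, inferInstance, sumQF Q₁ Q₂, fromBlocks X₁ 0 0 X₂, by omega,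
    Nat.lcm_pos hM₁ hM₂, by rw [Fintype.card_sum, hc₁, hc₂]; ring, sumQF_nondeg hn₁ hn₂, ?_, ?_, ?_, ?_⟩
  · intro hs
    by_contra hcon
    push Not at hcon
    have h0 : 0 ≤ exc ⇑Q₁ * exc ⇑Q₂ := by rw [← hexc]; exact mul_nonneg hq.le hcon
    cases s₁ <;> cases s₂ <;> simp at hs
    · have := mul_neg_of_pos_of_neg (hf₁ rfl) (ht₂ rfl); linarith
    · have := mul_neg_of_neg_of_pos (ht₁ rfl) (hf₂ rfl); linarith
  · intro hs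
    by_contra hcon
    push Not at hcon
    have h0 : exc ⇑Q₁ * exc ⇑Q₂ ≤ 0 := by rw [← hexc]; exact mul_nonpos_of_nonneg_of_nonpos hq.le hcon
    cases s₁ <;> cases s₂ <;> simp at hs
    · have := mul_pos (hf₁ rfl) (hf₂ rfl); linarith
    · have := mul_pos_of_neg_of_neg (ht₁ rfl) (ht₂ rfl); linarith
  · intro v
    rw [fromBlocks_mulVec, sumQF_apply, sumQF_apply, Sum.elim_comp_inl, Sum.elim_comp_inr]
    simp only [Matrix.zero_mulVec, add_zero, zero_add]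
    rw [hX₁, hX₂]
  · intro j
    rw [SUM_pow, Nat.lcm_dvd_iff, ← hj₁, ← hj₂, ← fromBlocks_one, fromBlocks_inj]
    simp

end Cfsg.Agent.Lib.Helper42.Sp8
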