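import Mathlib
import Cfsg.Agent.Lib.Helper44.StdForms

set_option autoImplicit false
set_option linter.unusedSimpArgs false
set_option linter.unusedSectionVars false

namespace Cfsg.Agent.Lib.Helper42.Sp8

open Matrix QuadraticMap Cfsg.Agent.Lib.Helper44

variable {F : Type*} [Field F] [Fintype F]

/-- the unipotent isometry -/
def U2_T (t : F) : (((Fin 1 ⊕ Fin 1) ⊕ Fin 2) → F) →ₗ[F] (((Fin 1 ⊕ Fin 1) ⊕ Fin 2) → F) where
  toFun v := Sum.elim (Sum.elim ![v (Sum.inl (Sum.inl 0))] ![t * v (Sum.inl (Sum.inl 0)) + v (Sum.inl (Sum.inr 0)) + v (Sum.inr 0) + v (Sum.inr 1)]) ![v (Sum.inr 0) + v (Sum.inr 1), v (Sum.inl (Sum.inl 0)) + v (Sum.inr 1)]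
  map_add' v w := by
    funext k
    rcases k with (k | k) | k <;> fin_cases k <;> simp <;> ring
  map_smul' c v := by
    funext k
    rcases k with (k | k) | k <;> fin_cases k <;> simp <;> ring

theorem U2_T_apply (t : F) (v : ((Fin 1 ⊕ Fin 1) ⊕ Fin 2) → F) : U2_T t v = Sum.elim (Sum.elim ![v (Sum.inl (Sum.inl 0))] ![t * v (Sum.inl (Sum.inl 0)) + v (Sum.inl (Sum.inr 0)) + v (Sum.inr 0) + v (Sum.inr 1)]) ![v (Sum.inr 0) + v (Sum.inr 1), v (Sum.inl (Sum.inl 0)) + v (Sum.inr 1)] := rfl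

/-- the power `2 ^ 1` -/
def U2_P1 (t : F) (v : ((Fin 1 ⊕ Fin 1) ⊕ Fin 2) → F) : ((Fin 1 ⊕ Fin 1) ⊕ Fin 2) → F := Sum.elim (Sum.elim ![v (Sum.inl (Sum.inl 0))] ![v (Sum.inl (Sum.inl 0)) + v (Sum.inl (Sum.inr 0)) + v (Sum.inr 1)]) ![v (Sum.inl (Sum.inl 0)) + v (Sum.inr 0), v (Sum.inr 1)]

theorem U2_sq0 [CharP F 2] (t : F) (v : ((Fin 1 ⊕ Fin 1) ⊕ Fin 2) → F) : U2_T t (U2_T t v) = U2_P1 t v := by
  have h2 : (2 : F) = 0 := CharTwo.two_eq_zero
  funext k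
  rcases k with (k | k) | k <;> fin_cases k
  · simp only [U2_T_apply, U2_P1, Sum.elim_inl, Sum.elim_inr, Matrix.cons_val_zero, Matrix.cons_val_one, Fin.zero_eta, Fin.mk_one, Fin.isValue, Matrix.cons_val_fin_one] <;>
    linear_combination (0) * h2
  · simp only [U2_T_apply, U2_P1, Sum.elim_inl, Sum.elim_inr, Matrix.cons_val_zero, Matrix.cons_val_one, Fin.zero_eta, Fin.mk_one, Fin.isValue, Matrix.cons_val_fin_one] <;>
    linear_combination (t * v (Sum.inl (Sum.inl 0)) + v (Sum.inr 0) + v (Sum.inr 1)) * h2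
  · simp only [U2_T_apply, U2_P1, Sum.elim_inl, Sum.elim_inr, Matrix.cons_val_zero, Matrix.cons_val_one, Fin.zero_eta, Fin.mk_one, Fin.isValue, Matrix.cons_val_fin_one] <;>
    linear_combination (v (Sum.inr 1)) * h2
  · simp only [U2_T_apply, U2_P1, Sum.elim_inl, Sum.elim_inr, Matrix.cons_val_zero, Matrix.cons_val_one, Fin.zero_eta, Fin.mk_one, Fin.isValue, Matrix.cons_val_fin_one] <;>
    linear_combination (v (Sum.inl (Sum.inl 0))) * h2

theorem U2_sq1 [CharP F 2] (t : F) (v : ((Fin 1 ⊕ Fin 1) ⊕ Fin 2) → F) : U2_P1 t (U2_P1 t v) = v := by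
  have h2 : (2 : F) = 0 := CharTwo.two_eq_zero
  funext k
  rcases k with (k | k) | k <;> fin_cases k
  · simp only [U2_P1, Sum.elim_inl, Sum.elim_inr, Matrix.cons_val_zero, Matrix.cons_val_one, Fin.zero_eta, Fin.mk_one, Fin.isValue, Matrix.cons_val_fin_one] <;>
    linear_combination (0) * h2
  · simp only [U2_P1, Sum.elim_inl, Sum.elim_inr, Matrix.cons_val_zero, Matrix.cons_val_one, Fin.zero_eta, Fin.mk_one, Fin.isValue, Matrix.cons_val_fin_one] <;>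
    linear_combination (v (Sum.inl (Sum.inl 0)) + v (Sum.inr 1)) * h2
  · simp only [U2_P1, Sum.elim_inl, Sum.elim_inr, Matrix.cons_val_zero, Matrix.cons_val_one, Fin.zero_eta, Fin.mk_one, Fin.isValue, Matrix.cons_val_fin_one] <;>
    linear_combination (v (Sum.inl (Sum.inl 0))) * h2
  · simp only [U2_P1, Sum.elim_inl, Sum.elim_inr, Matrix.cons_val_zero, Matrix.cons_val_one, Fin.zero_eta, Fin.mk_one, Fin.isValue, Matrix.cons_val_fin_one] <;>
    linear_combination (0) * h2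

theorem U2_inv [CharP F 2] (t : F) (v : ((Fin 1 ⊕ Fin 1) ⊕ Fin 2) → F) : minusQF 1 F 1 t (U2_T t v) = minusQF 1 F 1 t v := by
  have h2 : (2 : F) = 0 := CharTwo.two_eq_zero
  simp only [minusQF_apply, Fin.sum_univ_one, U2_T_apply, Sum.elim_inl, Sum.elim_inr, Matrix.cons_val_zero, Matrix.cons_val_one, Fin.isValue, Matrix.cons_val_fin_one]
  linear_combination (t * v (Sum.inl (Sum.inl 0)) * v (Sum.inl (Sum.inl 0)) + t * v (Sum.inl (Sum.inl 0)) * v (Sum.inr 1) + v (Sum.inl (Sum.inl 0)) * v (Sum.inr 0) + v (Sum.inl (Sum.inl 0)) * v (Sum.inr 1) + v (Sum.inr 0) * v (Sum.inr 1) + v (Sum.inr 1) * v (Sum.inr 1)) * h2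

/-- U2 -/
theorem unip2 [CharP F 2] (t : F) :
    ∃ X : Matrix ((Fin 1 ⊕ Fin 1) ⊕ Fin 2) ((Fin 1 ⊕ Fin 1) ⊕ Fin 2) F,
      (∀ v, minusQF 1 F 1 t (X *ᵥ v) = minusQF 1 F 1 t v) ∧ ∀ j : ℕ, X ^ j = 1 ↔ 4 ∣ j := by
  classical
  have : Fact (Nat.Prime 2) := ⟨Nat.prime_two⟩
  refine ⟨LinearMap.toMatrixAlgEquiv' (U2_T t), ?_, ?_⟩
  · intro v
    have : (LinearMap.toMatrixAlgEquiv' (U2_T t)) *ᵥ v = U2_T t v := by
      have := LinearMap.toMatrix'_mulVec (U2_T t) v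
      exact this
    rw [this, U2_inv]
  · intro j
    rw [← map_pow, map_eq_one_iff _ (LinearMap.toMatrixAlgEquiv' (R := F)).injective, ← orderOf_dvd_iff_pow_eq_one]
    have hord : orderOf (U2_T t) = 2 ^ (1 + 1) := by
      apply orderOf_eq_prime_pow
      · intro h
        have h1 := congrArg (fun L : (((Fin 1 ⊕ Fin 1) ⊕ Fin 2) → F) →ₗ[F] (((Fin 1 ⊕ Fin 1) ⊕ Fin 2) → F) => L (Pi.single (Sum.inl (Sum.inl 0)) 1) (Sum.inr 0)) h
        norm_num [pow_succ, Module.End.mul_apply, U2_sq0, U2_P1] at h1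
      · apply LinearMap.ext
        intro v
        norm_num [pow_succ, Module.End.mul_apply, U2_sq0, U2_sq1]
    rw [hord]
    norm_num

end Cfsg.Agent.Lib.Helper42.Sp8
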