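import Mathlib
import Cfsg.Agent.Lib.Helper44.StdForms

set_option autoImplicit false
set_option linter.unusedSectionVars false
set_option linter.unusedSimpArgs false
set_option linter.unnecessarySeqFocus false
set_option linter.unreachableTactic false

namespace Cfsg.Agent.Lib.Helper42.Sp8

open Matrix QuadraticMap Cfsg.Agent.Lib.Helper44

variable {F : Type*} [Field F] [Fintype F]

/-- index type -/
abbrev IU3 := (Fin 2 ⊕ Fin 2) ⊕ Fin 2

/-- the unipotent map -/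
def U3_f1 (t : F) (v : IU3 → F) : IU3 → F :=
  Sum.elim (Sum.elim ![v (Sum.inl (Sum.inl 0)), v (Sum.inl (Sum.inl 0)) + v (Sum.inl (Sum.inl 1))]
    ![t * v (Sum.inl (Sum.inl 1)) + v (Sum.inl (Sum.inr 0)) + v (Sum.inl (Sum.inr 1)) + v (Sum.inr 0) + v (Sum.inr 1),
      t * v (Sum.inl (Sum.inl 1)) + v (Sum.inl (Sum.inr 1)) + v (Sum.inr 0) + v (Sum.inr 1)])
    ![v (Sum.inr 0) + v (Sum.inr 1), v (Sum.inl (Sum.inl 1)) + v (Sum.inr 1)]

/-- its square -/
def U3_f2 (t : F) (v : IU3 → F) : IU3 → F :=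
  Sum.elim (Sum.elim ![v (Sum.inl (Sum.inl 0)), v (Sum.inl (Sum.inl 1))]
    ![t * v (Sum.inl (Sum.inl 0)) + t * v (Sum.inl (Sum.inl 1)) + v (Sum.inl (Sum.inl 1)) + v (Sum.inl (Sum.inr 0)) + v (Sum.inr 0),
      t * v (Sum.inl (Sum.inl 0)) + v (Sum.inl (Sum.inl 1)) + v (Sum.inl (Sum.inr 1)) + v (Sum.inr 1)])
    ![v (Sum.inl (Sum.inl 1)) + v (Sum.inr 0), v (Sum.inl (Sum.inl 0)) + v (Sum.inr 1)]

/-- its fourth power -/
def U3_f4 (v : IU3 → F) : IU3 → F :=
  Sum.elim (Sum.elim ![v (Sum.inl (Sum.inl 0)), v (Sum.inl (Sum.inl 1))]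
    ![v (Sum.inl (Sum.inl 1)) + v (Sum.inl (Sum.inr 0)),
      v (Sum.inl (Sum.inl 0)) + v (Sum.inl (Sum.inr 1))])
    ![v (Sum.inr 0), v (Sum.inr 1)]

/-- the unipotent map as a linear map -/
def U3_T (t : F) : Module.End F (IU3 → F) where
  toFun := U3_f1 t
  map_add' u v := by
    ext i
    rcases i with (i | i) | i <;> fin_cases i <;> simp [U3_f1] <;> ring
  map_smul' c v := by
    ext i
    rcases i with (i | i) | i <;> fin_cases i <;> simp [U3_f1] <;> ring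

theorem U3_f1f1 [CharP F 2] (t : F) (v : IU3 → F) : U3_f1 t (U3_f1 t v) = U3_f2 t v := by
  have h2 : (2 : F) = 0 := CharTwo.two_eq_zero
  ext i
  rcases i with (i | i) | i <;> fin_cases i
  · simp only [U3_f1, U3_f2, Sum.elim_inl, Sum.elim_inr, Matrix.cons_val_zero,
      Matrix.cons_val_one, Fin.zero_eta, Fin.mk_one] <;>
    linear_combination (0) * h2
  · simp only [U3_f1, U3_f2, Sum.elim_inl, Sum.elim_inr, Matrix.cons_val_zero,
      Matrix.cons_val_one, Fin.zero_eta, Fin.mk_one] <;>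
    linear_combination (v (Sum.inl (Sum.inl 0))) * h2
  · simp only [U3_f1, U3_f2, Sum.elim_inl, Sum.elim_inr, Matrix.cons_val_zero,
      Matrix.cons_val_one, Fin.zero_eta, Fin.mk_one] <;>
    linear_combination (t * v (Sum.inl (Sum.inl 1)) + v (Sum.inl (Sum.inr 1)) + v (Sum.inr 0) + (2) * v (Sum.inr 1)) * h2
  · simp only [U3_f1, U3_f2, Sum.elim_inl, Sum.elim_inr, Matrix.cons_val_zero,
      Matrix.cons_val_one, Fin.zero_eta, Fin.mk_one] <;>
    linear_combination (t * v (Sum.inl (Sum.inl 1)) + v (Sum.inr 0) + v (Sum.inr 1)) * h2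
  · simp only [U3_f1, U3_f2, Sum.elim_inl, Sum.elim_inr, Matrix.cons_val_zero,
      Matrix.cons_val_one, Fin.zero_eta, Fin.mk_one] <;>
    linear_combination (v (Sum.inr 1)) * h2
  · simp only [U3_f1, U3_f2, Sum.elim_inl, Sum.elim_inr, Matrix.cons_val_zero,
      Matrix.cons_val_one, Fin.zero_eta, Fin.mk_one] <;>
    linear_combination (v (Sum.inl (Sum.inl 1))) * h2

theorem U3_f2f2 [CharP F 2] (t : F) (v : IU3 → F) : U3_f2 t (U3_f2 t v) = U3_f4 v := by
  have h2 : (2 : F) = 0 := CharTwo.two_eq_zero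
  ext i
  rcases i with (i | i) | i <;> fin_cases i
  · simp only [U3_f2, U3_f4, Sum.elim_inl, Sum.elim_inr, Matrix.cons_val_zero,
      Matrix.cons_val_one, Fin.zero_eta, Fin.mk_one] <;>
    linear_combination (0) * h2
  · simp only [U3_f2, U3_f4, Sum.elim_inl, Sum.elim_inr, Matrix.cons_val_zero,
      Matrix.cons_val_one, Fin.zero_eta, Fin.mk_one] <;>
    linear_combination (0) * h2
  · simp only [U3_f2, U3_f4, Sum.elim_inl, Sum.elim_inr, Matrix.cons_val_zero,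
      Matrix.cons_val_one, Fin.zero_eta, Fin.mk_one] <;>
    linear_combination (t * v (Sum.inl (Sum.inl 0)) + t * v (Sum.inl (Sum.inl 1)) + v (Sum.inl (Sum.inl 1)) + v (Sum.inr 0)) * h2
  · simp only [U3_f2, U3_f4, Sum.elim_inl, Sum.elim_inr, Matrix.cons_val_zero,
      Matrix.cons_val_one, Fin.zero_eta, Fin.mk_one] <;>
    linear_combination (t * v (Sum.inl (Sum.inl 0)) + v (Sum.inl (Sum.inl 1)) + v (Sum.inr 1)) * h2
  · simp only [U3_f2, U3_f4, Sum.elim_inl, Sum.elim_inr, Matrix.cons_val_zero,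
      Matrix.cons_val_one, Fin.zero_eta, Fin.mk_one] <;>
    linear_combination (v (Sum.inl (Sum.inl 1))) * h2
  · simp only [U3_f2, U3_f4, Sum.elim_inl, Sum.elim_inr, Matrix.cons_val_zero,
      Matrix.cons_val_one, Fin.zero_eta, Fin.mk_one] <;>
    linear_combination (v (Sum.inl (Sum.inl 0))) * h2

theorem U3_f4f4 [CharP F 2] (v : IU3 → F) : U3_f4 (U3_f4 v) = v := by
  have h2 : (2 : F) = 0 := CharTwo.two_eq_zero
  ext i
  rcases i with (i | i) | i <;> fin_cases i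
  · simp only [U3_f4, Sum.elim_inl, Sum.elim_inr, Matrix.cons_val_zero,
      Matrix.cons_val_one, Fin.zero_eta, Fin.mk_one] <;>
    linear_combination (0) * h2
  · simp only [U3_f4, Sum.elim_inl, Sum.elim_inr, Matrix.cons_val_zero,
      Matrix.cons_val_one, Fin.zero_eta, Fin.mk_one] <;>
    linear_combination (0) * h2
  · simp only [U3_f4, Sum.elim_inl, Sum.elim_inr, Matrix.cons_val_zero,
      Matrix.cons_val_one, Fin.zero_eta, Fin.mk_one] <;>
    linear_combination (v (Sum.inl (Sum.inl 1))) * h2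
  · simp only [U3_f4, Sum.elim_inl, Sum.elim_inr, Matrix.cons_val_zero,
      Matrix.cons_val_one, Fin.zero_eta, Fin.mk_one] <;>
    linear_combination (v (Sum.inl (Sum.inl 0))) * h2
  · simp only [U3_f4, Sum.elim_inl, Sum.elim_inr, Matrix.cons_val_zero,
      Matrix.cons_val_one, Fin.zero_eta, Fin.mk_one] <;>
    linear_combination (0) * h2
  · simp only [U3_f4, Sum.elim_inl, Sum.elim_inr, Matrix.cons_val_zero,
      Matrix.cons_val_one, Fin.zero_eta, Fin.mk_one] <;>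
    linear_combination (0) * h2

theorem U3_Q [CharP F 2] (t : F) (v : IU3 → F) :
    minusQF 2 F 1 t (U3_f1 t v) = minusQF 2 F 1 t v := by
  have h2 : (2 : F) = 0 := CharTwo.two_eq_zero
  rw [minusQF_apply, minusQF_apply]
  simp only [U3_f1, Sum.elim_inl, Sum.elim_inr, Matrix.cons_val_zero, Matrix.cons_val_one,
    Fin.sum_univ_two]
  linear_combination (t * v (Sum.inl (Sum.inl 0)) * v (Sum.inl (Sum.inl 1)) + t * v (Sum.inl (Sum.inl 1)) * v (Sum.inl (Sum.inl 1)) + t * v (Sum.inl (Sum.inl 1)) * v (Sum.inr 1) + v (Sum.inl (Sum.inl 0)) * v (Sum.inl (Sum.inr 1)) + v (Sum.inl (Sum.inl 0)) * v (Sum.inr 0) + v (Sum.inl (Sum.inl 0)) * v (Sum.inr 1) + v (Sum.inl (Sum.inl 1)) * v (Sum.inr 0) + v (Sum.inl (Sum.inl 1)) * v (Sum.inr 1) + v (Sum.inr 0) * v (Sum.inr 1) + v (Sum.inr 1) * v (Sum.inr 1)) * h2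

/-- U3 -/
theorem unip3 [CharP F 2] (t : F) :
    ∃ X : Matrix ((Fin 2 ⊕ Fin 2) ⊕ Fin 2) ((Fin 2 ⊕ Fin 2) ⊕ Fin 2) F,
      (∀ v, minusQF 2 F 1 t (X *ᵥ v) = minusQF 2 F 1 t v) ∧ ∀ j : ℕ, X ^ j = 1 ↔ 8 ∣ j := by
  have e2 : ∀ v, ((U3_T t) ^ 2) v = U3_f2 t v := by
    intro v
    rw [pow_two, Module.End.mul_apply]
    exact U3_f1f1 t v
  have e4 : ∀ v, ((U3_T t) ^ 4) v = U3_f4 v := by
    intro v
    rw [show (4 : ℕ) = 2 * 2 from rfl, pow_mul, pow_two ((U3_T t) ^ 2), Module.End.mul_apply, e2, e2,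
      U3_f2f2]
  have e8 : (U3_T t) ^ 2 ^ (2 + 1) = 1 := by
    apply LinearMap.ext
    intro v
    rw [show (2 : ℕ) ^ (2 + 1) = 4 * 2 from rfl, pow_mul, pow_two ((U3_T t) ^ 4),
      Module.End.mul_apply, e4, e4, U3_f4f4]
    rfl
  have n4 : ¬ (U3_T t) ^ 2 ^ 2 = 1 := by
    intro h
    have h1 := congrArg (fun S : Module.End F (IU3 → F) =>
      S (Pi.single (Sum.inl (Sum.inl 0)) 1) (Sum.inl (Sum.inr 1))) h
    simp only [show (2 : ℕ) ^ 2 = 4 from rfl, e4] at h1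
    simp [U3_f4] at h1
  have hord : orderOf (U3_T t) = 2 ^ (2 + 1) := orderOf_eq_prime_pow n4 e8
  refine ⟨LinearMap.toMatrixAlgEquiv' (U3_T t), ?_, ?_⟩
  · intro v
    have : LinearMap.toMatrixAlgEquiv' (U3_T t) *ᵥ v = U3_f1 t v :=
      LinearMap.toMatrix'_mulVec (U3_T t) v
    rw [this, U3_Q]
  · intro j
    rw [← map_pow, EmbeddingLike.map_eq_one_iff, ← orderOf_dvd_iff_pow_eq_one, hord]
    norm_num

end Cfsg.Agent.Lib.Helper42.Sp8
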