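import Cfsg.Agent.Lib.Helper42.Sp8.Defs
import Cfsg.Agent.Lib.Helper42.Sp8.SUM
import Cfsg.Agent.Lib.Helper42.Sp8.STD
import Cfsg.Agent.Lib.Helper42.Sp8.U1
import Cfsg.Agent.Lib.Helper42.Sp8.U2
import Cfsg.Agent.Lib.Helper42.Sp8.U3
import Cfsg.Agent.Lib.Helper42.Sp8.TP
import Cfsg.Agent.Lib.Helper42.Sp8.TM1
import Cfsg.Agent.Lib.Helper42.Sp8.TM2

set_option autoImplicit false
set_option linter.unusedSectionVars false

namespace Cfsg.Agent.Lib.Helper42.Sp8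

open Matrix QuadraticMap Cfsg.Agent.Lib.Helper44 Cfsg.Agent.Lib.Helper43.PO
  Cfsg.Agent.Lib.Helper38.QCnt

section defs
variable (F : Type*) [Field F] [Fintype F]

/-- realizable up to divisibility -/
def R (n : ℕ) (s : Bool) (M : ℕ) : Prop := ∃ M', M ∣ M' ∧ RealQ F n s M'

/-- realizable in both types -/
def Flex (n M : ℕ) : Prop := R F n false M ∧ R F n true M

/-- the invariant of the table -/
def K : ℕ → ℕ → Prop
  | 1, M => Flex F 1 M ∨ M ∣ Fintype.card F - 1 ∨ M ∣ Fintype.card F + 1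
  | 2, M => Flex F 2 M ∨ M ∣ Fintype.card F ^ 2 + 1
  | 3, M => Flex F 3 M ∨ M ∣ Fintype.card F ^ 3 - 1 ∨ M ∣ Fintype.card F ^ 3 + 1 ∨
      M ∣ Nat.lcm (Fintype.card F ^ 2 + 1) (Fintype.card F - 1) ∨
      M ∣ Nat.lcm (Fintype.card F ^ 2 + 1) (Fintype.card F + 1)
  | 4, M => R F 4 true M
  | _, _ => True

end defs

variable {F : Type*} [Field F] [Fintype F]

theorem R.dvd {n : ℕ} {s : Bool} {M M₁ : ℕ} (h : R F n s M) (hd : M₁ ∣ M) : R F n s M₁ := by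
  obtain ⟨M', h1, h2⟩ := h
  exact ⟨M', hd.trans h1, h2⟩

theorem R.sum {a b : ℕ} {s₁ s₂ : Bool} {M₁ M₂ : ℕ} (h₁ : R F a s₁ M₁) (h₂ : R F b s₂ M₂) :
    R F (a + b) (xor s₁ s₂) (Nat.lcm M₁ M₂) := by
  obtain ⟨M₁', d1, r1⟩ := h₁
  obtain ⟨M₂', d2, r2⟩ := h₂
  exact ⟨_, Nat.lcm_dvd (d1.trans (Nat.dvd_lcm_left _ _)) (d2.trans (Nat.dvd_lcm_right _ _)),
    realQ_sum a b s₁ s₂ _ _ r1 r2⟩

theorem Flex.dvd {n M M₁ : ℕ} (h : Flex F n M) (hd : M₁ ∣ M) : Flex F n M₁ :=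
  ⟨h.1.dvd hd, h.2.dvd hd⟩

theorem Flex.sum_left {a b M₁ M₂ : ℕ} {s : Bool} (h₁ : Flex F a M₁) (h₂ : R F b s M₂) :
    Flex F (a + b) (Nat.lcm M₁ M₂) := by
  cases s
  · exact ⟨h₁.1.sum h₂, h₁.2.sum h₂⟩
  · exact ⟨h₁.2.sum h₂, h₁.1.sum h₂⟩

theorem Flex.sum_right {a b M₁ M₂ : ℕ} {s : Bool} (h₁ : R F a s M₁) (h₂ : Flex F b M₂) :
    Flex F (a + b) (Nat.lcm M₁ M₂) := by
  cases s
  · exact ⟨h₁.sum h₂.1, h₁.sum h₂.2⟩
  · exact ⟨h₁.sum h₂.2, h₁.sum h₂.1⟩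

theorem flex_mul {j k T c t : ℕ} {s : Bool} (hT : R F j s T) (hodd : Odd T)
    (hk : Flex F k (2 ^ c)) (ht : t ≤ c) : Flex F (j + k) (T * 2 ^ t) := by
  apply (Flex.sum_right hT hk).dvd
  apply Nat.Coprime.mul_dvd_of_dvd_of_dvd
  · exact (Nat.Coprime.pow_left t (Nat.coprime_two_left.mpr hodd)).symm
  · exact Nat.dvd_lcm_left _ _
  · exact (pow_dvd_pow 2 ht).trans (Nat.dvd_lcm_right _ _)

section char2
variable [CharP F 2]

theorem Rm (j : ℕ) (hj : 0 < j) : R F j true (Fintype.card F ^ j + 1) := by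
  obtain ⟨Q, X, h1, h2, h3, h4⟩ := minus_torus_raw (F := F) j hj
  exact ⟨_, dvd_rfl, realQ_minus_of_raw j hj Q X h1 h2 h3 h4⟩

theorem Rp (d : ℕ) (hd : 0 < d) : R F d false (Fintype.card F ^ d - 1) :=
  ⟨_, dvd_rfl, realQ_plus_torus d hd⟩

theorem flex_of_unip (n M : ℕ) (hM : 0 < M)
    (h : ∀ t : F, ∃ X : Matrix ((Fin n ⊕ Fin n) ⊕ Fin 2) ((Fin n ⊕ Fin n) ⊕ Fin 2) F,
      (∀ v, minusQF n F 1 t (X *ᵥ v) = minusQF n F 1 t v) ∧ ∀ j : ℕ, X ^ j = 1 ↔ M ∣ j) :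
    Flex F (n + 1) M := by
  constructor
  · obtain ⟨X, h1, h2⟩ := h 0
    exact ⟨_, dvd_rfl, (realQ_of_std n 0 M hM X h1 h2).1 rfl⟩
  · obtain ⟨ζ, hζ⟩ := exists_aniso F
    obtain ⟨X, h1, h2⟩ := h ζ
    exact ⟨_, dvd_rfl, (realQ_of_std n ζ M hM X h1 h2).2 hζ⟩

theorem flex1 : Flex F 1 (2 ^ 1) := flex_of_unip 0 2 (by norm_num) unip1
theorem flex2 : Flex F 2 (2 ^ 2) := flex_of_unip 1 4 (by norm_num) unip2
theorem flex3 : Flex F 3 (2 ^ 3) := flex_of_unip 2 8 (by norm_num) unip3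

theorem two_dvd_card : 2 ∣ Fintype.card F :=
  (CharP.cast_eq_zero_iff F 2 (Fintype.card F)).mp (FiniteField.cast_card_eq_zero F)

theorem odd_add (j : ℕ) (hj : 0 < j) : Odd (Fintype.card F ^ j + 1) := by
  have : Even (Fintype.card F ^ j) :=
    (Nat.even_pow.mpr ⟨(even_iff_two_dvd.mpr two_dvd_card), hj.ne'⟩)
  exact this.add_one

theorem odd_sub (j : ℕ) (hj : 0 < j) : Odd (Fintype.card F ^ j - 1) := by
  have h1 : Even (Fintype.card F ^ j) :=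
    (Nat.even_pow.mpr ⟨(even_iff_two_dvd.mpr two_dvd_card), hj.ne'⟩)
  have h2 : 0 < Fintype.card F ^ j := pow_pos Fintype.card_pos _
  exact Nat.Even.sub_odd h2 h1 odd_one

local notation "q" => Fintype.card F

theorem two_le_card : 2 ≤ q := Fintype.one_lt_card

theorem Rp1 : R F 1 false (q - 1) := by simpa using Rp (F := F) 1 one_pos
theorem Rm1 : R F 1 true (q + 1) := by simpa using Rm (F := F) 1 one_pos

theorem sub_dvd_sq : q - 1 ∣ q ^ 2 - 1 := by simpa using Nat.sub_dvd_pow_sub_pow q 1 2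
theorem sub_dvd_cube : q - 1 ∣ q ^ 3 - 1 := by simpa using Nat.sub_dvd_pow_sub_pow q 1 3
theorem add_dvd_cube : q + 1 ∣ q ^ 3 + 1 := by
  simpa using Odd.nat_add_dvd_pow_add_pow q 1 (by decide : Odd 3)
theorem sq_sub_eq : q ^ 2 - 1 = (q - 1) * (q + 1) := by
  obtain ⟨t, ht⟩ : ∃ t, q = t + 1 := ⟨q - 1, by have := two_le_card (F := F); omega⟩
  rw [ht]
  simp only [Nat.add_sub_cancel]
  have : (t + 1) ^ 2 = t * (t + 1 + 1) + 1 := by ring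
  rw [this, Nat.add_sub_cancel]
theorem add_dvd_sq : q + 1 ∣ q ^ 2 - 1 := by rw [sq_sub_eq]; exact dvd_mul_left _ _
theorem four_sub_eq : q ^ 4 - 1 = (q ^ 2 + 1) * (q ^ 2 - 1) := by
  obtain ⟨t, ht⟩ : ∃ t, q ^ 2 = t + 1 := ⟨q ^ 2 - 1, by
    have : 0 < q ^ 2 := pow_pos Fintype.card_pos _
    omega⟩
  have h4 : q ^ 4 = (q ^ 2) ^ 2 := by ring
  rw [h4, ht]
  simp only [Nat.add_sub_cancel]
  have : (t + 1) ^ 2 = (t + 1 + 1) * t + 1 := by ring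
  rw [this, Nat.add_sub_cancel]

theorem cop_of_odd (A : ℕ) (hA : Odd A) : Nat.Coprime (A + 2) A := by
  rw [add_comm, Nat.coprime_add_self_left]
  exact Nat.coprime_two_left.mpr hA

theorem sq_dvd_lcm : q ^ 2 - 1 ∣ Nat.lcm (q - 1) (q + 1) := by
  have h1 : q + 1 = (q - 1) + 2 := by have := two_le_card (F := F); omega
  have h2 : Nat.Coprime (q - 1) (q + 1) := by
    rw [h1]
    exact (cop_of_odd _ (by simpa using odd_sub (F := F) 1 one_pos)).symm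
  rw [h2.lcm_eq_mul, sq_sub_eq]

theorem four_dvd_lcm : q ^ 4 - 1 ∣ Nat.lcm (q ^ 2 + 1) (q ^ 2 - 1) := by
  have h1 : q ^ 2 + 1 = (q ^ 2 - 1) + 2 := by
    have : 0 < q ^ 2 := pow_pos Fintype.card_pos _
    omega
  have h2 : Nat.Coprime (q ^ 2 + 1) (q ^ 2 - 1) := by
    rw [h1]
    exact cop_of_odd _ (odd_sub (F := F) 2 two_pos)
  rw [h2.lcm_eq_mul, four_sub_eq]

theorem flex_q2 : Flex F 2 (q ^ 2 - 1) :=
  ⟨Rp 2 two_pos, (Rp1.sum Rm1 : R F (1 + 1) (xor false true) _).dvd sq_dvd_lcm⟩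

theorem RW : R F 4 true (Nat.lcm (q ^ 2 + 1) (q ^ 2 - 1)) :=
  ((Rm 2 two_pos).sum (Rp 2 two_pos) : R F (2 + 2) (xor true false) _)
theorem RA : R F 4 true (Nat.lcm (q - 1) (q ^ 3 + 1)) :=
  (Rp1.sum (Rm 3 (by norm_num)) : R F (1 + 3) (xor false true) _)
theorem RB : R F 4 true (Nat.lcm (q + 1) (q ^ 3 - 1)) :=
  (Rm1.sum (Rp 3 (by norm_num)) : R F (1 + 3) (xor true false) _)

theorem K_some1 {M : ℕ} (h : K F 1 M) : ∃ s, R F 1 s M := by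
  rcases h with h | h | h
  · exact ⟨false, h.1⟩
  · exact ⟨false, Rp1.dvd h⟩
  · exact ⟨true, Rm1.dvd h⟩

theorem K_some2 {M : ℕ} (h : K F 2 M) : ∃ s, R F 2 s M := by
  rcases h with h | h
  · exact ⟨false, h.1⟩
  · exact ⟨true, (Rm 2 two_pos).dvd h⟩

theorem K_some3 {M : ℕ} (h : K F 3 M) : ∃ s, R F 3 s M := by
  rcases h with h | h | h | h | h
  · exact ⟨false, h.1⟩
  · exact ⟨false, (Rp 3 (by norm_num)).dvd h⟩
  · exact ⟨true, (Rm 3 (by norm_num)).dvd h⟩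
  · exact ⟨true, (((Rm 2 two_pos).sum Rp1 : R F (2 + 1) (xor true false) _)).dvd h⟩
  · exact ⟨false, (((Rm 2 two_pos).sum Rm1 : R F (2 + 1) (xor true true) _)).dvd h⟩

theorem K11 {M₁ M₂ : ℕ} (h₁ : K F 1 M₁) (h₂ : K F 1 M₂) : K F 2 (Nat.lcm M₁ M₂) := by
  obtain ⟨s₁, hs₁⟩ := K_some1 h₁
  obtain ⟨s₂, hs₂⟩ := K_some1 h₂
  rcases h₁ with f | h₁
  · exact Or.inl (f.sum_left hs₂ : Flex F (1 + 1) _)
  rcases h₂ with f | h₂
  · exact Or.inl (Flex.sum_right hs₁ f : Flex F (1 + 1) _)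
  left
  apply flex_q2.dvd
  apply Nat.lcm_dvd
  · rcases h₁ with h | h
    · exact h.trans sub_dvd_sq
    · exact h.trans add_dvd_sq
  · rcases h₂ with h | h
    · exact h.trans sub_dvd_sq
    · exact h.trans add_dvd_sq

theorem K12 {M₁ M₂ : ℕ} (h₁ : K F 1 M₁) (h₂ : K F 2 M₂) : K F 3 (Nat.lcm M₁ M₂) := by
  obtain ⟨s₁, hs₁⟩ := K_some1 h₁
  obtain ⟨s₂, hs₂⟩ := K_some2 h₂
  rcases h₁ with f | h₁
  · exact Or.inl (f.sum_left hs₂ : Flex F (1 + 2) _)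
  rcases h₂ with f | h₂
  · exact Or.inl (Flex.sum_right hs₁ f : Flex F (1 + 2) _)
  rcases h₁ with h | h
  · right; right; right; left
    exact Nat.lcm_dvd (h.trans (Nat.dvd_lcm_right _ _)) (h₂.trans (Nat.dvd_lcm_left _ _))
  · right; right; right; right
    exact Nat.lcm_dvd (h.trans (Nat.dvd_lcm_right _ _)) (h₂.trans (Nat.dvd_lcm_left _ _))

theorem K22 {M₁ M₂ : ℕ} (h₁ : K F 2 M₁) (h₂ : K F 2 M₂) : K F 4 (Nat.lcm M₁ M₂) := by
  obtain ⟨s₁, hs₁⟩ := K_some2 h₁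
  obtain ⟨s₂, hs₂⟩ := K_some2 h₂
  rcases h₁ with f | h₁
  · exact (f.sum_left hs₂ : Flex F (2 + 2) _).2
  rcases h₂ with f | h₂
  · exact (Flex.sum_right hs₁ f : Flex F (2 + 2) _).2
  exact RW.dvd (Nat.lcm_dvd (h₁.trans (Nat.dvd_lcm_left _ _)) (h₂.trans (Nat.dvd_lcm_left _ _)))

theorem K13 {M₁ M₂ : ℕ} (h₁ : K F 1 M₁) (h₂ : K F 3 M₂) : K F 4 (Nat.lcm M₁ M₂) := by
  obtain ⟨s₁, hs₁⟩ := K_some1 h₁
  obtain ⟨s₂, hs₂⟩ := K_some3 h₂
  rcases h₁ with f | h₁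
  · exact (f.sum_left hs₂ : Flex F (1 + 3) _).2
  rcases h₂ with f | h₂
  · exact (Flex.sum_right hs₁ f : Flex F (1 + 3) _).2
  have hW1 : q - 1 ∣ Nat.lcm (q ^ 2 + 1) (q ^ 2 - 1) := sub_dvd_sq.trans (Nat.dvd_lcm_right _ _)
  have hW2 : q + 1 ∣ Nat.lcm (q ^ 2 + 1) (q ^ 2 - 1) := add_dvd_sq.trans (Nat.dvd_lcm_right _ _)
  have hW3 : Nat.lcm (q ^ 2 + 1) (q - 1) ∣ Nat.lcm (q ^ 2 + 1) (q ^ 2 - 1) :=
    Nat.lcm_dvd (Nat.dvd_lcm_left _ _) hW1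
  have hW4 : Nat.lcm (q ^ 2 + 1) (q + 1) ∣ Nat.lcm (q ^ 2 + 1) (q ^ 2 - 1) :=
    Nat.lcm_dvd (Nat.dvd_lcm_left _ _) hW2
  have hM1 : M₁ ∣ Nat.lcm (q ^ 2 + 1) (q ^ 2 - 1) := by
    rcases h₁ with h | h
    · exact h.trans hW1
    · exact h.trans hW2
  rcases h₂ with h | h | h | h
  · -- q^3 - 1
    apply RB.dvd
    rcases h₁ with h' | h'
    · exact Nat.lcm_dvd ((h'.trans sub_dvd_cube).trans (Nat.dvd_lcm_right _ _))
        (h.trans (Nat.dvd_lcm_right _ _))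
    · exact Nat.lcm_dvd (h'.trans (Nat.dvd_lcm_left _ _)) (h.trans (Nat.dvd_lcm_right _ _))
  · apply RA.dvd
    rcases h₁ with h' | h'
    · exact Nat.lcm_dvd (h'.trans (Nat.dvd_lcm_left _ _)) (h.trans (Nat.dvd_lcm_right _ _))
    · exact Nat.lcm_dvd ((h'.trans add_dvd_cube).trans (Nat.dvd_lcm_right _ _))
        (h.trans (Nat.dvd_lcm_right _ _))
  · exact RW.dvd (Nat.lcm_dvd hM1 (h.trans hW3))
  · exact RW.dvd (Nat.lcm_dvd hM1 (h.trans hW4))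

theorem K_unip (n : ℕ) (hn : 0 < n) (h4 : n ≤ 4) : K F n (2 ^ Nat.clog 2 (2 * n)) := by
  interval_cases n
  · exact Or.inl (by norm_num; exact flex1)
  · exact Or.inl (by norm_num; exact flex2)
  · exact Or.inl (by norm_num; exact flex3)
  · have h := (Flex.sum_right Rp1 flex3 : Flex F (1 + 3) _).2
    have e : Nat.clog 2 (2 * 4) = 3 := by norm_num
    rw [e]
    exact h.dvd (Nat.dvd_lcm_right _ _)

theorem K_minus (j D : ℕ) (hj : 0 < j) (hD : 0 < D) (h4 : j * D ≤ 4) :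
    K F (j * D) ((q ^ j + 1) * 2 ^ Nat.clog 2 D) := by
  have hj4 : j ≤ 4 := le_trans (Nat.le_mul_of_pos_right j hD) h4
  have hD4 : D ≤ 4 := le_trans (Nat.le_mul_of_pos_left D hj) h4
  have e1 : Nat.clog 2 1 = 0 := by norm_num
  have e2 : Nat.clog 2 2 = 1 := by norm_num
  have e3 : Nat.clog 2 3 = 2 := by norm_num
  have e4 : Nat.clog 2 4 = 2 := by norm_num
  interval_cases j <;> interval_cases D <;> first | omega | skip
  · rw [e1]; right; right; simp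
  · rw [e2]; exact Or.inl (flex_mul (Rm 1 one_pos) (odd_add 1 one_pos) flex1 le_rfl : Flex F (1 + 1) _)
  · rw [e3]; exact Or.inl (flex_mul (Rm 1 one_pos) (odd_add 1 one_pos) flex2 le_rfl : Flex F (1 + 2) _)
  · rw [e4]; exact (flex_mul (Rm 1 one_pos) (odd_add 1 one_pos) flex3 (by norm_num) : Flex F (1 + 3) _).2
  · rw [e1]; right; simp
  · rw [e2]; exact (flex_mul (Rm 2 two_pos) (odd_add 2 two_pos) flex2 (by norm_num) : Flex F (2 + 2) _).2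
  · rw [e1]; right; right; left; simp
  · rw [e1]; exact (Rm 4 (by norm_num)).dvd (by simp)

theorem K_plus (j D : ℕ) (hj : 0 < j) (hD : 0 < D) (h4 : j * D ≤ 4) :
    K F (j * D) ((q ^ j - 1) * 2 ^ Nat.clog 2 D) := by
  have hj4 : j ≤ 4 := le_trans (Nat.le_mul_of_pos_right j hD) h4
  have hD4 : D ≤ 4 := le_trans (Nat.le_mul_of_pos_left D hj) h4
  have e1 : Nat.clog 2 1 = 0 := by norm_num
  have e2 : Nat.clog 2 2 = 1 := by norm_num
  have e3 : Nat.clog 2 3 = 2 := by norm_num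
  have e4 : Nat.clog 2 4 = 2 := by norm_num
  interval_cases j <;> interval_cases D <;> first | omega | skip
  · rw [e1]; right; left; simp
  · rw [e2]; exact Or.inl (flex_mul (Rp 1 one_pos) (odd_sub 1 one_pos) flex1 le_rfl : Flex F (1 + 1) _)
  · rw [e3]; exact Or.inl (flex_mul (Rp 1 one_pos) (odd_sub 1 one_pos) flex2 le_rfl : Flex F (1 + 2) _)
  · rw [e4]; exact (flex_mul (Rp 1 one_pos) (odd_sub 1 one_pos) flex3 (by norm_num) : Flex F (1 + 3) _).2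
  · rw [e1]; left; exact flex_q2.dvd (by simp)
  · rw [e2]; exact (flex_mul (Rp 2 two_pos) (odd_sub 2 two_pos) flex2 (by norm_num) : Flex F (2 + 2) _).2
  · rw [e1]; right; left; simp
  · rw [e1]; exact RW.dvd (by simpa using four_dvd_lcm (F := F))

theorem K_of_shape (n M : ℕ) (h : Shape q n M) : 0 < n ∧ (n ≤ 4 → K F n M) := by
  induction h with
  | unip n hn => exact ⟨hn, K_unip n hn⟩
  | minus j D hj hD => exact ⟨Nat.mul_pos hj hD, K_minus j D hj hD⟩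
  | plus j D hj hD => exact ⟨Nat.mul_pos hj hD, K_plus j D hj hD⟩
  | sum a b M₁ M₂ _ _ ih₁ ih₂ =>
    refine ⟨by omega, fun h4 => ?_⟩
    have ha := ih₁.1
    have hb := ih₂.1
    have k₁ := ih₁.2 (by omega)
    have k₂ := ih₂.2 (by omega)
    have ha4 : a ≤ 3 := by omega
    have hb4 : b ≤ 3 := by omega
    interval_cases a <;> interval_cases b <;> first | omega | skip
    · exact K11 k₁ k₂
    · exact K12 k₁ k₂
    · exact K13 k₁ k₂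
    · rw [Nat.lcm_comm]; exact K12 k₂ k₁
    · exact K22 k₁ k₂
    · rw [Nat.lcm_comm]; exact K13 k₂ k₁

theorem realQ_of_shape (M : ℕ) (h : Shape (Fintype.card F) 4 M) :
    ∃ M', M ∣ M' ∧ RealQ F 4 true M' :=
  (K_of_shape 4 M h).2 le_rfl

end char2

end Cfsg.Agent.Lib.Helper42.Sp8
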