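import Cfsg.Agent.Lib.Helper42.Sp8.Defs2
import Cfsg.Agent.Lib.Helper42.Sp8.SUM
import Cfsg.Agent.Lib.Helper44.JType1

set_option autoImplicit false

namespace Cfsg.Agent.Lib.Helper42.Sp8

open Matrix QuadraticMap Cfsg.Agent.Lib.Helper44 Cfsg.Agent.Lib.Helper43.PO
  Cfsg.Agent.Lib.Helper38.QCnt Cfsg.Agent.Lib.Helper42.SpecPSp

variable {F : Type*} [Field F] [Fintype F]

theorem SUMA_sum {ι₁ ι₂ : Type} [Fintype ι₁] [DecidableEq ι₁] [Fintype ι₂] [DecidableEq ι₂]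
    (X₁ : Matrix ι₁ ι₁ F) (X₂ : Matrix ι₂ ι₂ F) (j : ℕ) :
    ∑ i ∈ Finset.range j, (fromBlocks X₁ 0 0 X₂) ^ i =
      fromBlocks (∑ i ∈ Finset.range j, X₁ ^ i) 0 0 (∑ i ∈ Finset.range j, X₂ ^ i) := by
  induction j with
  | zero => simp
  | succ k ih =>
    rw [Finset.sum_range_succ, Finset.sum_range_succ, Finset.sum_range_succ, ih, SUM_pow, fromBlocks_add]
    simp

/-- SUMA -/
theorem realA_sum (a b : ℕ) (s₁ s₂ e₁ e₂ : Bool) (M₁ M₂ : ℕ) (h₁ : RealA F a s₁ e₁ M₁)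
    (h₂ : RealA F b s₂ e₂ M₂) :
    RealA F (a + b) (xor s₁ s₂) (xor e₁ e₂) (Nat.lcm M₁ M₂) := by
  obtain ⟨ι₁, _, _, Q₁, X₁, v₁, ha, hM₁, hc₁, hn₁, ht₁, hf₁, hX₁, ho₁, he₁, hj₁⟩ := h₁
  obtain ⟨ι₂, _, _, Q₂, X₂, v₂, hb, hM₂, hc₂, hn₂, ht₂, hf₂, hX₂, ho₂, he₂, hj₂⟩ := h₂
  have hexc := exc_sum ⇑Q₁ ⇑Q₂ ⇑(sumQF Q₁ Q₂) (sumQF_apply Q₁ Q₂)
    (unif_of_nondeg (n := b - 1) (by omega) Q₂ hn₂)
  have hq : (0 : ℤ) < (Fintype.card F : ℤ) - 1 := by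
    have : 2 ≤ Fintype.card F := Fintype.one_lt_card
    have : (2 : ℤ) ≤ (Fintype.card F : ℤ) := by exact_mod_cast this
    linarith
  have hrank : (fromBlocks X₁ 0 0 X₂ - 1).rank = (X₁ - 1).rank + (X₂ - 1).rank := by
    have e : fromBlocks X₁ 0 0 X₂ - 1 = fromBlocks (X₁ - 1) 0 0 (X₂ - 1) := by
      rw [← fromBlocks_one, sub_eq_add_neg, fromBlocks_neg, fromBlocks_add]
      simp [sub_eq_add_neg]
    rw [e, rank_fromBlocks_diag]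
  refine ⟨ι₁ ⊕ ι₂, inferInstance, inferInstance, sumQF Q₁ Q₂, fromBlocks X₁ 0 0 X₂, Sum.elim v₁ v₂, by omega,
    Nat.lcm_pos hM₁ hM₂, by rw [Fintype.card_sum, hc₁, hc₂]; ring, sumQF_nondeg hn₁ hn₂, ?_, ?_, ?_, ?_, ?_, ?_⟩
  · intro hs
    by_contra hcon
    push Not at hcon
    have h0 : 0 ≤ exc ⇑Q₁ * exc ⇑Q₂ := by rw [← hexc]; exact mul_nonneg hq.le hcon
    cases s₁ <;> cases s₂ <;> simp at hs
    · have := mul_neg_of_pos_of_neg (hf₁ rfl) (ht₂ rfl); linarith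
    · have := mul_neg_of_neg_of_pos (ht₁ rfl) (hf₂ rfl); linarith
  · intro hs
    by_contra hcon
    push Not at hcon
    have h0 : exc ⇑Q₁ * exc ⇑Q₂ ≤ 0 := by rw [← hexc]; exact mul_nonpos_of_nonneg_of_nonpos hq.le hcon
    cases s₁ <;> cases s₂ <;> simp at hs
    · have := mul_pos (hf₁ rfl) (hf₂ rfl); linarith
    · have := mul_pos_of_neg_of_neg (ht₁ rfl) (ht₂ rfl); linarith
  · intro v
    rw [fromBlocks_mulVec, sumQF_apply, sumQF_apply, Sum.elim_comp_inl, Sum.elim_comp_inr]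
    simp only [Matrix.zero_mulVec, add_zero, zero_add]
    rw [hX₁, hX₂]
  · intro hs
    rw [hrank]
    cases e₁ <;> cases e₂ <;> simp at hs
    · exact (he₁ rfl).add_odd (ho₂ rfl)
    · exact (ho₁ rfl).add_even (he₂ rfl)
  · intro hs
    rw [hrank]
    cases e₁ <;> cases e₂ <;> simp at hs
    · exact (he₁ rfl).add (he₂ rfl)
    · exact (ho₁ rfl).add_odd (ho₂ rfl)
  · intro j
    rw [SUM_pow, SUMA_sum, Nat.lcm_dvd_iff, ← hj₁, ← hj₂, ← fromBlocks_one, fromBlocks_inj, fromBlocks_mulVec,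
      Sum.elim_comp_inl, Sum.elim_comp_inr]
    simp only [Matrix.zero_mulVec, add_zero, zero_add]
    have hz : ∀ (x : ι₁ → F) (y : ι₂ → F), Sum.elim x y = 0 ↔ x = 0 ∧ y = 0 := by
      intro x y
      constructor
      · intro h
        exact ⟨funext fun i => congrFun h (Sum.inl i), funext fun i => congrFun h (Sum.inr i)⟩
      · rintro ⟨rfl, rfl⟩
        funext i
        rcases i with i | i <;> rfl
    rw [hz]
    constructor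
    · rintro ⟨⟨h1, -, -, h2⟩, h3, h4⟩
      exact ⟨⟨h1, h3⟩, ⟨h2, h4⟩⟩
    · rintro ⟨⟨h1, h3⟩, ⟨h2, h4⟩⟩
      exact ⟨⟨h1, trivial, trivial, h2⟩, h3, h4⟩

end Cfsg.Agent.Lib.Helper42.Sp8
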