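import Mathlib
import Cfsg.Agent.Lib.Helper38.QSignB
import Cfsg.Agent.Lib.Helper44.MinusSplit
import Cfsg.Agent.Lib.Helper42.SpecPSp10

set_option autoImplicit false

/-! Definitions for the row S3589: `ω(Sp₈(q)) = ω(GO₈⁻(q))`, `q` even. -/

namespace Cfsg.Agent.Lib.Helper42.Sp8

open Matrix QuadraticMap Cfsg.Agent.Lib.Helper44 Cfsg.Agent.Lib.Helper43.PO
  Cfsg.Agent.Lib.Helper38.QCnt

/-- `RealQ F n s M`: some non-degenerate quadratic form in `2n` variables over `F`, of minus type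
(negative excess) if `s = true` and of plus type (positive excess) if `s = false`, has an isometry
`X` with `X ^ j = 1 ↔ M ∣ j`. -/
def RealQ (F : Type*) [Field F] [Fintype F] (n : ℕ) (s : Bool) (M : ℕ) : Prop :=
  ∃ (ι : Type) (_ : Fintype ι) (_ : DecidableEq ι) (Q : QuadraticForm F (ι → F))
    (X : Matrix ι ι F),
    0 < n ∧ 0 < M ∧ Fintype.card ι = 2 * n ∧ (polarBilin Q).Nondegenerate ∧
    (s = true → exc ⇑Q < 0) ∧ (s = false → 0 < exc ⇑Q) ∧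
    (∀ v, Q (X *ᵥ v) = Q v) ∧ ∀ j : ℕ, X ^ j = 1 ↔ M ∣ j

/-- The exponents that bound the elements of `Sp_{2n}(q)`, `q` even. -/
inductive Shape (q : ℕ) : ℕ → ℕ → Prop
  | unip (n : ℕ) (hn : 0 < n) : Shape q n (2 ^ Nat.clog 2 (2 * n))
  | minus (j D : ℕ) (hj : 0 < j) (hD : 0 < D) :
      Shape q (j * D) ((q ^ j + 1) * 2 ^ Nat.clog 2 D)
  | plus (d D : ℕ) (hd : 0 < d) (hD : 0 < D) :
      Shape q (d * D) ((q ^ d - 1) * 2 ^ Nat.clog 2 D)
  | sum (a b M₁ M₂ : ℕ) (h₁ : Shape q a M₁) (h₂ : Shape q b M₂) :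
      Shape q (a + b) (Nat.lcm M₁ M₂)

end Cfsg.Agent.Lib.Helper42.Sp8
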