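import Cfsg.Agent.Lib.Helper42.Sp8.Defs
import Cfsg.Agent.Lib.Helper42.Sp8.Aff

set_option autoImplicit false

/-! Definitions for the row S3590: `V ⋊ Ω₈⁻(q)` is isospectral to `Sp₈(q)`, `q` even. -/

namespace Cfsg.Agent.Lib.Helper42.Sp8

open Matrix QuadraticMap Cfsg.Agent.Lib.Helper44 Cfsg.Agent.Lib.Helper43.PO
  Cfsg.Agent.Lib.Helper38.QCnt

/-- `RealA F n s e M`: some non-degenerate quadratic form in `2n` variables over `F` of sign `s`
(`true` = minus type) has an isometry `X` with `rank (X - 1)` odd (`e = true`) or even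
(`e = false`) and a vector `v` such that the affine map `x ↦ X x + v` has order exactly `M`. -/
def RealA (F : Type*) [Field F] [Fintype F] (n : ℕ) (s e : Bool) (M : ℕ) : Prop :=
  ∃ (ι : Type) (_ : Fintype ι) (_ : DecidableEq ι) (Q : QuadraticForm F (ι → F))
    (X : Matrix ι ι F) (v : ι → F),
    0 < n ∧ 0 < M ∧ Fintype.card ι = 2 * n ∧ (polarBilin Q).Nondegenerate ∧
    (s = true → exc ⇑Q < 0) ∧ (s = false → 0 < exc ⇑Q) ∧
    (∀ w, Q (X *ᵥ w) = Q w) ∧
    (e = true → Odd (X - 1).rank) ∧ (e = false → Even (X - 1).rank) ∧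
    ∀ j : ℕ, (X ^ j = 1 ∧ (∑ i ∈ Finset.range j, X ^ i) *ᵥ v = 0) ↔ M ∣ j

end Cfsg.Agent.Lib.Helper42.Sp8
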