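import Cfsg.Agent.Lib.Helper42.Sp8.Defs

set_option autoImplicit false

namespace Cfsg.Agent.Lib.Helper42.Sp8

open Matrix QuadraticMap Cfsg.Agent.Lib.Helper44 Cfsg.Agent.Lib.Helper43.PO
  Cfsg.Agent.Lib.Helper38.QCnt Cfsg.Agent.Lib.Helper42.SpecPSp

variable {F : Type*} [Field F] [Fintype F]

/-- transport of an isometry of finite order along `IsoM`. -/
theorem GRP_transport {ι κ : Type} [Fintype ι] [DecidableEq ι] [Fintype κ] [DecidableEq κ]
    (Q : QuadraticForm F (ι → F)) (R : QuadraticForm F (κ → F)) (h : IsoM Q R)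
    (X : Matrix ι ι F) (hX : ∀ v, Q (X *ᵥ v) = Q v) (M : ℕ) (hM : 0 < M) (hXM : X ^ M = 1) :
    ∃ (g : ↥(Cfsg.isometryGroup F ⇑R)) (P : Matrix ι κ F) (N : Matrix κ ι F),
      P * N = 1 ∧ N * P = 1 ∧
      ∀ j : ℕ, (((g ^ j : ↥(Cfsg.isometryGroup F ⇑R)) : GL κ F) : Matrix κ κ F)
        = N * X ^ j * P := by
  obtain ⟨P, N, hPN, hNP, hiso⟩ := h
  have hXX : X * X ^ (M - 1) = 1 := by
    rw [← pow_succ', Nat.sub_add_cancel hM, hXM]
  have hXX' : X ^ (M - 1) * X = 1 := by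
    rw [← pow_succ, Nat.sub_add_cancel hM, hXM]
  let g₀ : GL κ F := ⟨N * X * P, N * X ^ (M - 1) * P, by
    calc N * X * P * (N * X ^ (M - 1) * P) = N * (X * (P * N) * X ^ (M - 1)) * P := by
          simp only [Matrix.mul_assoc]
      _ = 1 := by rw [hPN, Matrix.mul_one, hXX, Matrix.mul_one, hNP], by
    calc N * X ^ (M - 1) * P * (N * X * P) = N * (X ^ (M - 1) * (P * N) * X) * P := by
          simp only [Matrix.mul_assoc]
      _ = 1 := by rw [hPN, Matrix.mul_one, hXX', Matrix.mul_one, hNP]⟩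
  have hg₀ : g₀ ∈ Cfsg.isometryGroup F ⇑R := by
    rw [mem_isometryGroup]
    intro u
    show R ((N * X * P) *ᵥ u) = R u
    rw [← hiso, ← hiso u, mulVec_mulVec]
    have : P * (N * X * P) = (P * N) * X * P := by simp only [Matrix.mul_assoc]
    rw [this, hPN, Matrix.one_mul, ← mulVec_mulVec, hX]
  refine ⟨⟨g₀, hg₀⟩, P, N, hPN, hNP, ?_⟩
  intro j
  induction j with
  | zero => simp [hNP]
  | succ j ih =>
    rw [pow_succ, Subgroup.coe_mul, Units.val_mul, ih]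
    show N * X ^ j * P * (N * X * P) = _
    calc N * X ^ j * P * (N * X * P) = N * (X ^ j * (P * N) * X) * P := by
          simp only [Matrix.mul_assoc]
      _ = _ := by rw [hPN, Matrix.mul_one, ← pow_succ]

theorem GRP_pow_eq_one_iff {ι κ : Type} [Fintype ι] [DecidableEq ι] [Fintype κ] [DecidableEq κ]
    {P : Matrix ι κ F} {N : Matrix κ ι F} (hPN : P * N = 1) (hNP : N * P = 1) (Y : Matrix ι ι F) :
    N * Y * P = 1 ↔ Y = 1 := by
  constructor
  · intro h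
    calc Y = (P * N) * Y * (P * N) := by rw [hPN, Matrix.one_mul, Matrix.mul_one]
      _ = P * (N * Y * P) * N := by simp only [Matrix.mul_assoc]
      _ = 1 := by rw [h, Matrix.mul_one, hPN]
  · intro h
    rw [h, Matrix.mul_one, hNP]

/-- GRP -/
theorem exists_isom_of_realQ (a b : F)
    (han : ∀ z₁ z₂ : F, z₁ ^ 2 + a * z₁ * z₂ + b * z₂ ^ 2 = 0 → z₁ = 0 ∧ z₂ = 0) (M : ℕ)
    (h : RealQ F 4 true M) :
    ∃ g : ↥(Cfsg.isometryGroup F (Cfsg.quadFormMinus 3 F a b)), orderOf g = M := by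
  obtain ⟨ι, _, _, Q, X, -, hM, hι, hQ, hs, -, hX, hk⟩ := h
  have hI := isoM_minus_of_neg (n := 3) hι Q hQ (hs rfl) han
  obtain ⟨g, P, N, hPN, hNP, hg⟩ := GRP_transport Q _ hI X hX M hM ((hk M).2 dvd_rfl)
  have key : ∃ g : ↥(Cfsg.isometryGroup F ⇑(minusQF 3 F a b)), orderOf g = M := by
    refine ⟨g, ?_⟩
    have hiff : ∀ j : ℕ, g ^ j = 1 ↔ M ∣ j := by
      intro j
      rw [← hk, ← GRP_pow_eq_one_iff hPN hNP, ← hg]
      constructor
      · intro h; rw [h]; rfl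
      · intro h; exact Subtype.ext (Units.ext h)
    exact Nat.dvd_antisymm (orderOf_dvd_iff_pow_eq_one.2 ((hiff M).2 dvd_rfl))
      ((hiff _).1 (pow_orderOf_eq_one g))
  rw [minusQF_coe] at key
  exact key

end Cfsg.Agent.Lib.Helper42.Sp8
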