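import Cfsg.Agent.Lib.Helper42.Sp8.Defs2
import Cfsg.Agent.Lib.Helper42.Sp8.GRP
import Cfsg.Agent.Lib.Helper44.InvolOmega

set_option autoImplicit false
set_option linter.unusedVariables false

namespace Cfsg.Agent.Lib.Helper42.Sp8

open Matrix QuadraticMap Cfsg.Agent.Lib.Helper44 Cfsg.Agent.Lib.Helper43.PO
  Cfsg.Agent.Lib.Helper38.QCnt Cfsg.Agent.Lib.Helper42.SpecPSp

variable {F : Type*} [Field F] [Fintype F]

omit [Fintype F] in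
theorem GRPA_rank {ι κ : Type} [Fintype ι] [DecidableEq ι] [Fintype κ] [DecidableEq κ]
    {P : Matrix ι κ F} {N : Matrix κ ι F} (hPN : P * N = 1) (hNP : N * P = 1) (Y : Matrix ι ι F) :
    (N * Y * P).rank = Y.rank := by
  apply le_antisymm
  · exact (rank_mul_le_left _ _).trans (rank_mul_le_right _ _)
  · have e : Y = P * (N * Y * P) * N := by
      calc Y = (P * N) * Y * (P * N) := by rw [hPN, Matrix.one_mul, Matrix.mul_one]
        _ = P * (N * Y * P) * N := by simp only [Matrix.mul_assoc]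
    calc Y.rank = (P * (N * Y * P) * N).rank := by rw [← e]
      _ ≤ (N * Y * P).rank := (rank_mul_le_left _ _).trans (rank_mul_le_right _ _)

/-- GRPA -/
theorem exists_omega_of_realA [CharP F 2] (a b : F)
    (han : ∀ z₁ z₂ : F, z₁ ^ 2 + a * z₁ * z₂ + b * z₂ ^ 2 = 0 → z₁ = 0 ∧ z₂ = 0) (M : ℕ)
    (h : RealA F 4 true false M) :
    ∃ (g : ↥(Cfsg.isometryGroup F (Cfsg.quadFormMinus 3 F a b)))
      (v : (Fin 3 ⊕ Fin 3) ⊕ Fin 2 → F), g ∈ Cfsg.Omega F (Cfsg.quadFormMinus 3 F a b) ∧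
      ∀ j : ℕ, (g ^ j = 1 ∧ (∑ i ∈ Finset.range j,
        ((g : GL ((Fin 3 ⊕ Fin 3) ⊕ Fin 2) F) :
          Matrix ((Fin 3 ⊕ Fin 3) ⊕ Fin 2) ((Fin 3 ⊕ Fin 3) ⊕ Fin 2) F) ^ i) *ᵥ v = 0) ↔ M ∣ j := by
  obtain ⟨ι, _, _, Q, X, v, -, hM, hι, hQ, hs, -, hX, -, he0, hk⟩ := h
  have hI := isoM_minus_of_neg (n := 3) hι Q hQ (hs rfl) han
  obtain ⟨g, P, N, hPN, hNP, hg⟩ := GRP_transport Q _ hI X hX M hM ((hk M).2 dvd_rfl).1
  have key : ∃ (g : ↥(Cfsg.isometryGroup F ⇑(minusQF 3 F a b)))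
      (v : (Fin 3 ⊕ Fin 3) ⊕ Fin 2 → F), g ∈ Cfsg.Omega F ⇑(minusQF 3 F a b) ∧
      ∀ j : ℕ, (g ^ j = 1 ∧ (∑ i ∈ Finset.range j,
        ((g : GL ((Fin 3 ⊕ Fin 3) ⊕ Fin 2) F) :
          Matrix ((Fin 3 ⊕ Fin 3) ⊕ Fin 2) ((Fin 3 ⊕ Fin 3) ⊕ Fin 2) F) ^ i) *ᵥ v = 0) ↔ M ∣ j := by
    have hgi : ∀ i : ℕ, ((g : GL ((Fin 3 ⊕ Fin 3) ⊕ Fin 2) F) :
        Matrix ((Fin 3 ⊕ Fin 3) ⊕ Fin 2) ((Fin 3 ⊕ Fin 3) ⊕ Fin 2) F) ^ i = N * X ^ i * P := by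
      intro i
      rw [← hg i, Subgroup.coe_pow, Units.val_pow_eq_pow_val]
    refine ⟨g, N *ᵥ v, ?_, ?_⟩
    · rw [omegaEvenRank_of_generic (minusQF 3 F a b) (minusQF_nondeg 3 F han) (Or.inr (by simp)) g]
      have e : ((g : GL ((Fin 3 ⊕ Fin 3) ⊕ Fin 2) F) :
          Matrix ((Fin 3 ⊕ Fin 3) ⊕ Fin 2) ((Fin 3 ⊕ Fin 3) ⊕ Fin 2) F) - 1 = N * (X - 1) * P := by
        have := hgi 1
        rw [pow_one, pow_one] at this
        rw [this, Matrix.mul_sub, Matrix.sub_mul, Matrix.mul_one, hNP]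
      rw [e, GRPA_rank hPN hNP]
      exact he0 rfl
    · intro j
      rw [← hk]
      have h1 : g ^ j = 1 ↔ X ^ j = 1 := by
        rw [← GRP_pow_eq_one_iff hPN hNP, ← hg]
        constructor
        · intro h; rw [h]; rfl
        · intro h; exact Subtype.ext (Units.ext h)
      have h2 : (∑ i ∈ Finset.range j, ((g : GL ((Fin 3 ⊕ Fin 3) ⊕ Fin 2) F) :
          Matrix ((Fin 3 ⊕ Fin 3) ⊕ Fin 2) ((Fin 3 ⊕ Fin 3) ⊕ Fin 2) F) ^ i) *ᵥ (N *ᵥ v) =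
          N *ᵥ ((∑ i ∈ Finset.range j, X ^ i) *ᵥ v) := by
        rw [Finset.sum_congr rfl (fun i _ => hgi i), ← Matrix.sum_mul, ← Matrix.mul_sum, Matrix.mulVec_mulVec,
          Matrix.mul_assoc, Matrix.mul_assoc, hPN, Matrix.mul_one, ← Matrix.mulVec_mulVec]
      have h3 : ∀ w : ι → F, N *ᵥ w = 0 ↔ w = 0 := by
        intro w
        constructor
        · intro h
          have : P *ᵥ (N *ᵥ w) = w := by rw [Matrix.mulVec_mulVec, hPN, Matrix.one_mulVec]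
          rw [← this, h, Matrix.mulVec_zero]
        · intro h
          rw [h, Matrix.mulVec_zero]
      rw [h1, h2, h3]
  rw [minusQF_coe] at key
  exact key

end Cfsg.Agent.Lib.Helper42.Sp8
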