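import Mathlib
import Cfsg.Agent.Lib.Helper42.SpecPSp5

set_option autoImplicit false
set_option linter.unusedSectionVars false

namespace Cfsg.Agent.Lib.Helper42.Sp8

open Matrix Cfsg.Agent.Lib.Helper42.SpecPSp

variable {F : Type*} [Field F] [Fintype F]

omit [Fintype F] in
/-- a nondegenerate alternating space has even dimension. -/
lemma RES_even {U : Type*} [AddCommGroup U] [Module F U] [FiniteDimensional F U]
    (B : LinearMap.BilinForm F U) (hB : B.Nondegenerate) (hA : B.IsAlt) :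
    ∃ k : ℕ, Module.finrank F U = 2 * k := by
  classical
  obtain ⟨m', k', b, h1, h2, h3, h4⟩ := Cfsg.Agent.S0752.result B hA
  have hk' : k' = 0 := by
    by_contra hne
    have j : Fin k' := ⟨0, Nat.pos_of_ne_zero hne⟩
    exact b.ne_zero (Sum.inr j) (hB.1 _ (h4 j))
  subst hk'
  refine ⟨m', ?_⟩
  have := Module.finrank_eq_card_basis b
  simp at this
  omega

omit [Fintype F] in
lemma RES_adj {n : ℕ} (M : Matrix (Fin n ⊕ Fin n) (Fin n ⊕ Fin n) F) (u v : Fin n ⊕ Fin n → F) :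
    Cfsg.sympForm n F (M *ᵥ u) v = Cfsg.sympForm n F u (adj M *ᵥ v) := by
  unfold Cfsg.sympForm adj
  rw [Matrix.mulVec_mulVec, ← Matrix.mul_assoc, ← Matrix.mul_assoc, Matrix.mul_neg, JJ, neg_neg, Matrix.one_mul,
    ← Matrix.mulVec_mulVec, dotProduct_comm, Matrix.dotProduct_mulVec, ← Matrix.mulVec_transpose, dotProduct_comm]

omit [Fintype F] in
/-- the one-sided statement. -/
lemma RES_one {n : ℕ} (X π : Matrix (Fin n ⊕ Fin n) (Fin n ⊕ Fin n) F)
    (hX : adj X * X = 1) (hπ : π * π = π) (hne : π ≠ 0) (hc : Commute π X) (hs : adj π = π) :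
    ∃ (a : ℕ) (X₁ : Matrix (Fin a ⊕ Fin a) (Fin a ⊕ Fin a) F), 0 < a ∧
      Module.finrank F (LinearMap.range (Matrix.mulVecLin π)) = 2 * a ∧ adj X₁ * X₁ = 1 ∧
      ∀ j : ℕ, X₁ ^ j = 1 → X ^ j * π = π := by
  classical
  set U := LinearMap.range (Matrix.mulVecLin π) with hU
  have hfix : ∀ x ∈ U, π *ᵥ x = x := by
    rintro _ ⟨v, rfl⟩
    rw [Matrix.mulVecLin_apply, Matrix.mulVec_mulVec, hπ]
  have hmem : ∀ v, π *ᵥ v ∈ U := fun v => ⟨v, rfl⟩
  set B : LinearMap.BilinForm F U := (Cfsg.Agent.Lib.Helper94.sympB n F).restrict U with hB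
  have hBapp : ∀ x y : U, B x y = Cfsg.sympForm n F x y := by
    intro x y
    rw [hB, LinearMap.BilinForm.restrict_apply, LinearMap.domRestrict_apply,
      Cfsg.Agent.Lib.Helper94.sympB_apply]
  have hA : B.IsAlt := fun x => Cfsg.Agent.Lib.Helper94.sympB_isAlt n (x : Fin n ⊕ Fin n → F)
  have hsep : ∀ x : U, (∀ y : U, B x y = 0) → x = 0 := by
    intro x hx
    apply Subtype.ext
    apply (Cfsg.Agent.Lib.Helper94.sympB_nondegenerate (F := F) n).1
    intro v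
    rw [Cfsg.Agent.Lib.Helper94.sympB_apply]
    have h1 := hx ⟨π *ᵥ v, hmem v⟩
    rw [hBapp] at h1
    have h2 := RES_adj π (x : Fin n ⊕ Fin n → F) v
    rw [hfix _ x.2, hs] at h2
    rw [h2]
    exact h1
  have hN : B.Nondegenerate := by
    refine ⟨hsep, ?_⟩
    intro y hy
    apply hsep
    intro x
    rw [← hA.neg_eq, hy x, neg_zero]
  obtain ⟨a, ha⟩ := RES_even B hN hA
  obtain ⟨Ψ, hΨ⟩ := transfer_sp B hN hA a ha
  have hXU : ∀ x ∈ U, Matrix.mulVecLin X x ∈ U := by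
    intro x hx
    rw [Matrix.mulVecLin_apply, ← hfix x hx, Matrix.mulVec_mulVec, ← hc.eq, ← Matrix.mulVec_mulVec]
    exact hmem _
  set g : Module.End F U := (Matrix.mulVecLin X).restrict hXU with hg
  have hgapp : ∀ x : U, ((g x : U) : Fin n ⊕ Fin n → F) = X *ᵥ (x : Fin n ⊕ Fin n → F) := fun x => rfl
  have hXsp : X ∈ symplecticGroup (Fin n) F := (mem_sp_iff X).2 hX
  have hgB : ∀ u v, B (g u) (g v) = B u v := by
    intro u v
    rw [hBapp, hBapp, hgapp, hgapp]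
    exact (Cfsg.Agent.Lib.Helper13.mem_symplecticGroup_iff_preserves X).1 hXsp _ _
  have hgpow : ∀ (j : ℕ) (x : U), (((g ^ j) x : U) : Fin n ⊕ Fin n → F) = (X ^ j) *ᵥ (x : Fin n ⊕ Fin n → F) := by
    intro j
    induction j with
    | zero => intro x; simp
    | succ j ih =>
      intro x
      rw [pow_succ, Module.End.mul_apply, ih, hgapp, Matrix.mulVec_mulVec, ← pow_succ]
  refine ⟨a, Ψ g, ?_, ha, (mem_sp_iff _).1 (hΨ g hgB), ?_⟩
  · rcases Nat.eq_zero_or_pos a with h0 | h0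
    · exfalso
      rw [h0, mul_zero, Submodule.finrank_eq_zero] at ha
      apply hne
      ext i j
      have h1 : π *ᵥ (Pi.single j 1) ∈ U := hmem _
      rw [ha, Submodule.mem_bot] at h1
      have := congrFun h1 i
      simpa using this
    · exact h0
  · intro j hj
    rw [← map_pow] at hj
    have h1 : g ^ j = 1 := by
      apply Ψ.injective
      rw [hj, map_one]
    ext i k
    have h2 := hgpow j ⟨π *ᵥ (Pi.single k 1), hmem _⟩
    rw [h1] at h2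
    have h3 : π *ᵥ (Pi.single k 1) = (X ^ j) *ᵥ (π *ᵥ (Pi.single k 1)) := h2
    rw [Matrix.mulVec_mulVec] at h3
    have := congrFun h3 i
    simpa using this.symm

/-- RES -/
theorem restrict_sp {n : ℕ} (X π₁ π₂ : Matrix (Fin n ⊕ Fin n) (Fin n ⊕ Fin n) F)
    (hX : adj X * X = 1) (h1 : π₁ + π₂ = 1) (h0 : π₁ * π₂ = 0) (hne1 : π₁ ≠ 0) (hne2 : π₂ ≠ 0)
    (hc1 : Commute π₁ X) (hc2 : Commute π₂ X) (hs1 : adj π₁ = π₁) (hs2 : adj π₂ = π₂) :
    ∃ (a b : ℕ) (X₁ : Matrix (Fin a ⊕ Fin a) (Fin a ⊕ Fin a) F)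
      (X₂ : Matrix (Fin b ⊕ Fin b) (Fin b ⊕ Fin b) F),
      0 < a ∧ 0 < b ∧ a + b = n ∧ adj X₁ * X₁ = 1 ∧ adj X₂ * X₂ = 1 ∧
      ∀ j : ℕ, X₁ ^ j = 1 → X₂ ^ j = 1 → X ^ j = 1 := by
  have hp1 : π₁ * π₁ = π₁ := by
    calc π₁ * π₁ = π₁ * π₁ + π₁ * π₂ := by rw [h0, add_zero]
      _ = π₁ * (π₁ + π₂) := by rw [mul_add]
      _ = π₁ := by rw [h1, mul_one]
  have hp2 : π₂ * π₂ = π₂ := by
    calc π₂ * π₂ = π₁ * π₂ + π₂ * π₂ := by rw [h0, zero_add]
      _ = (π₁ + π₂) * π₂ := by rw [add_mul]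
      _ = π₂ := by rw [h1, one_mul]
  obtain ⟨a, X₁, ha, hra, hX₁, hj₁⟩ := RES_one X π₁ hX hp1 hne1 hc1 hs1
  obtain ⟨b, X₂, hb, hrb, hX₂, hj₂⟩ := RES_one X π₂ hX hp2 hne2 hc2 hs2
  refine ⟨a, b, X₁, X₂, ha, hb, ?_, hX₁, hX₂, ?_⟩
  · have hcompl : IsCompl (LinearMap.range (Matrix.mulVecLin π₁)) (LinearMap.range (Matrix.mulVecLin π₂)) := by
      constructor
      · rw [Submodule.disjoint_def]
        rintro _ ⟨u, rfl⟩ ⟨v, hv⟩
        rw [Matrix.mulVecLin_apply] at hv ⊢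
        rw [Matrix.mulVecLin_apply] at hv
        calc π₁ *ᵥ u = (π₁ * π₁) *ᵥ u := by rw [hp1]
          _ = π₁ *ᵥ (π₁ *ᵥ u) := by rw [Matrix.mulVec_mulVec]
          _ = π₁ *ᵥ (π₂ *ᵥ v) := by rw [hv]
          _ = 0 := by rw [Matrix.mulVec_mulVec, h0, Matrix.zero_mulVec]
      · rw [codisjoint_iff, eq_top_iff]
        intro w _
        have : w = π₁ *ᵥ w + π₂ *ᵥ w := by rw [← Matrix.add_mulVec, h1, Matrix.one_mulVec]
        rw [this]
        exact Submodule.add_mem_sup ⟨w, rfl⟩ ⟨w, rfl⟩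
    have := Submodule.finrank_add_eq_of_isCompl hcompl
    rw [hra, hrb, Module.finrank_fintype_fun_eq_card, Fintype.card_sum, Fintype.card_fin] at this
    omega
  · intro j h₁ h₂
    calc X ^ j = X ^ j * (π₁ + π₂) := by rw [h1, mul_one]
      _ = π₁ + π₂ := by rw [mul_add, hj₁ j h₁, hj₂ j h₂]
      _ = 1 := h1

end Cfsg.Agent.Lib.Helper42.Sp8
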