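import Mathlib
import Cfsg.Statements.S3589
import Cfsg.Agent.Lib.Helper42.SpecPSp5
import Cfsg.Agent.Lib.Helper44.StdForms
import Cfsg.Agent.Lib.Helper44.Transport

set_option autoImplicit false

namespace Cfsg.Agent.Lib.Helper42.Sp8

open Matrix QuadraticMap Cfsg.Agent.Lib.Helper44 Cfsg.Agent.Lib.Helper42.SpecPSp

variable {F : Type*} [Field F] [Fintype F]

/-- SUB -/
theorem exists_psp_of_isom [CharP F 2] (a b : F)
    (han : ∀ z₁ z₂ : F, z₁ ^ 2 + a * z₁ * z₂ + b * z₂ ^ 2 = 0 → z₁ = 0 ∧ z₂ = 0)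
    (g : ↥(Cfsg.isometryGroup F (Cfsg.quadFormMinus 3 F a b))) :
    ∃ x : Cfsg.PSp 4 F, orderOf x = orderOf g := by
  classical
  have h2 : (2 : F) = 0 := CharTwo.two_eq_zero
  set Q := minusQF 3 F a b with hQdef
  set B : LinearMap.BilinForm F ((Fin 3 ⊕ Fin 3) ⊕ Fin 2 → F) := polarBilin Q with hBdef
  have hB : B.Nondegenerate := minusQF_nondeg 3 F han
  have hA : B.IsAlt := by
    intro x
    show polar Q x x = 0
    rw [polar_self, two_smul, ← two_mul, h2, zero_mul]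
  have hfin : Module.finrank F ((Fin 3 ⊕ Fin 3) ⊕ Fin 2 → F) = 2 * 4 := by simp
  obtain ⟨Ψ, hΨ⟩ := transfer_sp B hB hA 4 hfin
  set A : Matrix ((Fin 3 ⊕ Fin 3) ⊕ Fin 2) ((Fin 3 ⊕ Fin 3) ⊕ Fin 2) F :=
    ((g : GL ((Fin 3 ⊕ Fin 3) ⊕ Fin 2) F) :
      Matrix ((Fin 3 ⊕ Fin 3) ⊕ Fin 2) ((Fin 3 ⊕ Fin 3) ⊕ Fin 2) F) with hAdef
  have hgQ : ∀ u, Q (A *ᵥ u) = Q u := by
    have := mem_isometryGroup.mp g.2
    intro u
    rw [hQdef, minusQF_coe]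
    exact this u
  let G : Module.End F ((Fin 3 ⊕ Fin 3) ⊕ Fin 2 → F) := Matrix.toLinAlgEquiv' A
  have hGapp : ∀ u, G u = A *ᵥ u := fun u => rfl
  have hG : ∀ u v, B (G u) (G v) = B u v := by
    intro u v
    show polar Q (G u) (G v) = polar Q u v
    simp only [polar, hGapp, ← Matrix.mulVec_add, hgQ]
  let x : symplecticGroup (Fin 4) F := ⟨Ψ G, hΨ G hG⟩
  refine ⟨QuotientGroup.mk x, orderOf_psp (by norm_num) x (orderOf g) ?_⟩
  intro k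
  have hneg : (-1 : Matrix (Fin 4 ⊕ Fin 4) (Fin 4 ⊕ Fin 4) F) = 1 := by
    have : (1 : Matrix (Fin 4 ⊕ Fin 4) (Fin 4 ⊕ Fin 4) F) + 1 = 0 := by
      rw [← two_smul F (1 : Matrix (Fin 4 ⊕ Fin 4) (Fin 4 ⊕ Fin 4) F), h2, zero_smul]
    exact (eq_neg_of_add_eq_zero_left this).symm
  rw [hneg, or_self, orderOf_dvd_iff_pow_eq_one]
  show (Ψ G) ^ k = 1 ↔ _
  rw [← map_pow, ← map_pow, map_eq_one_iff _ Ψ.injective,
    map_eq_one_iff _ (Matrix.toLinAlgEquiv' (R := F)).injective]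
  constructor
  · intro h
    apply Subtype.ext
    apply Units.ext
    simpa using h
  · intro h
    have := congrArg (fun y : ↥(Cfsg.isometryGroup F (Cfsg.quadFormMinus 3 F a b)) =>
      ((y : GL ((Fin 3 ⊕ Fin 3) ⊕ Fin 2) F) :
        Matrix ((Fin 3 ⊕ Fin 3) ⊕ Fin 2) ((Fin 3 ⊕ Fin 3) ⊕ Fin 2) F)) h
    simpa using this

end Cfsg.Agent.Lib.Helper42.Sp8
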