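import Cfsg.Agent.Lib.Helper42.Sp8.Defs
import Cfsg.Agent.Lib.Helper42.Sp8.BAD1
import Cfsg.Agent.Lib.Helper42.Sp8.RES

set_option autoImplicit false

namespace Cfsg.Agent.Lib.Helper42.Sp8

open Matrix Cfsg.Agent.Lib.Helper42.SpecPSp

variable {F : Type*} [Field F] [Fintype F]

theorem exists_shape [CharP F 2] (n : ℕ) (hn : 0 < n)
    (X : Matrix (Fin n ⊕ Fin n) (Fin n ⊕ Fin n) F) (hX : adj X * X = 1) :
    ∃ M, Shape (Fintype.card F) n M ∧ X ^ M = 1 := by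
  classical
  have : Fact (Nat.Prime 2) := ⟨Nat.prime_two⟩
  induction n using Nat.strong_induction_on with
  | _ n ih =>
  have hX' : X * adj X = 1 := mul_eq_one_comm.mp hX
  have : Nonempty (Fin n ⊕ Fin n) := ⟨Sum.inl ⟨0, hn⟩⟩
  have hpos : ∀ j D : ℕ, j * D = n → 0 < j ∧ 0 < D := by
    intro j D h
    constructor
    · rcases Nat.eq_zero_or_pos j with rfl | h'
      · simp at h; omega
      · exact h'
    · rcases Nat.eq_zero_or_pos D with rfl | h'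
      · simp at h; omega
      · exact h'
  rcases dichotomy_st (adjL n) adj_mul adj_one adj_adj X hX hX' with
    ⟨π₁, π₂, h1, h0, hne1, hne2, hc1, hc2, hs1, hs2⟩ | ⟨f, e, hf, hfe⟩ |
    ⟨f, a, ε, hf, hεε, hcε, hsε, hfa⟩
  · obtain ⟨a, b, X₁, X₂, ha, hb, hab, hX₁, hX₂, hj⟩ :=
      restrict_sp X π₁ π₂ hX h1 h0 hne1 hne2 hc1 hc2 hs1 hs2
    obtain ⟨M₁, hS₁, hM₁⟩ := ih a (by omega) ha X₁ hX₁
    obtain ⟨M₂, hS₂, hM₂⟩ := ih b (by omega) hb X₂ hX₂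
    refine ⟨Nat.lcm M₁ M₂, hab ▸ Shape.sum a b M₁ M₂ hS₁ hS₂, hj _ ?_ ?_⟩
    · obtain ⟨c, hc⟩ := Nat.dvd_lcm_left M₁ M₂
      rw [hc, pow_mul, hM₁, one_pow]
    · obtain ⟨c, hc⟩ := Nat.dvd_lcm_right M₁ M₂
      rw [hc, pow_mul, hM₂, one_pow]
  · rcases bad1_two hn X hX f hf e hfe with h | ⟨j, D, hjD, h⟩
    · exact ⟨_, Shape.unip n hn, h⟩
    · exact ⟨_, hjD ▸ Shape.minus j D (hpos j D hjD).1 (hpos j D hjD).2, h⟩
  · let u : (Matrix (Fin n ⊕ Fin n) (Fin n ⊕ Fin n) F)ˣ := ⟨X, adj X, hX', hX⟩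
    have hu : X ^ orderOf u = 1 := by
      have := congrArg Units.val (pow_orderOf_eq_one u)
      rwa [Units.val_pow_eq_pow_val, Units.val_one] at this
    obtain ⟨j, D, hjD, h⟩ := bad2_sp 2 hn X hX (orderOf u) (orderOf_pos u) hu f hf a ε hεε hcε hsε hfa
    exact ⟨_, hjD ▸ Shape.plus j D (hpos j D hjD).1 (hpos j D hjD).2, h⟩

end Cfsg.Agent.Lib.Helper42.Sp8
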