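import Cfsg.Agent.Lib.Helper42.Sp8.Defs2
import Cfsg.Agent.Lib.Helper42.Sp8.COMB
import Cfsg.Agent.Lib.Helper42.Sp8.RES
import Cfsg.Agent.Lib.Helper42.Sp8.GEO
import Cfsg.Agent.Lib.Helper42.Sp8.NIL
import Cfsg.Agent.Lib.Helper42.Sp8.IDEM
import Cfsg.Agent.Lib.Helper42.Sp8.BLK
import Cfsg.Agent.Lib.Helper44.JType1

set_option autoImplicit false
set_option linter.unusedSectionVars false

namespace Cfsg.Agent.Lib.Helper42.Sp8

open Matrix QuadraticMap Cfsg.Agent.Lib.Helper44 Cfsg.Agent.Lib.Helper43.PO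
  Cfsg.Agent.Lib.Helper38.QCnt Cfsg.Agent.Lib.Helper42.SpecPSp

variable {F : Type*} [Field F] [Fintype F]

theorem UPPER_blk_geom {ι₁ ι₂ : Type} [Fintype ι₁] [DecidableEq ι₁] [Fintype ι₂] [DecidableEq ι₂]
    (X₁ : Matrix ι₁ ι₁ F) (X₂ : Matrix ι₂ ι₂ F) (j : ℕ) :
    ∑ i ∈ Finset.range j, (fromBlocks X₁ 0 0 X₂) ^ i =
      fromBlocks (∑ i ∈ Finset.range j, X₁ ^ i) 0 0 (∑ i ∈ Finset.range j, X₂ ^ i) := by
  induction j with
  | zero => simp
  | succ k ih =>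
    rw [Finset.sum_range_succ, Finset.sum_range_succ, Finset.sum_range_succ, ih, SUM_pow,
      fromBlocks_add]
    simp

theorem UPPER_geom_block {ι : Type} [Fintype ι] [DecidableEq ι] (X : Matrix ι ι F) (M : ℕ)
    (hX : X ^ M = 1) (c : ℕ) :
    ∑ i ∈ Finset.range (M * c), X ^ i = c • ∑ i ∈ Finset.range M, X ^ i := by
  induction c with
  | zero => simp
  | succ c ih =>
    rw [Nat.mul_succ, Finset.sum_range_add, ih, succ_nsmul]
    congr 1
    apply Finset.sum_congr rfl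
    intro i _
    rw [pow_add, pow_mul, hX, one_pow, one_mul]

theorem UPPER_odd_nsmul [CharP F 2] {ι : Type} [Fintype ι] [DecidableEq ι] (Y : Matrix ι ι F)
    (m : ℕ) (hm : Odd m) : m • Y = Y := by
  obtain ⟨r, rfl⟩ := hm
  have h2 : (2 : ℕ) • Y = 0 := by
    ext i j
    simp only [Matrix.smul_apply, two_nsmul, Matrix.zero_apply]
    exact CharTwo.add_self_eq_zero _
  rw [add_nsmul, one_nsmul, mul_nsmul, h2, smul_zero, zero_add]

theorem UPPER_frob [CharP F 2] {ι : Type} [Fintype ι] [DecidableEq ι] (X : Matrix ι ι F) (c : ℕ) :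
    X ^ (2 ^ c) - 1 = (X - 1) ^ (2 ^ c) := by
  have h1 := mul_geom_sum X (2 ^ c)
  rw [geo_sum, ← pow_succ'] at h1
  have h2 : 2 ^ c - 1 + 1 = 2 ^ c := Nat.sub_add_cancel Nat.one_le_two_pow
  rw [h2] at h1
  exact h1.symm

/-- UPPER (helper42): the hard inclusion -/
theorem realQ_of_double [CharP F 2] {ι : Type} [Fintype ι] [DecidableEq ι]
    (hι : Fintype.card ι = 8) (Q : QuadraticForm F (ι → F)) (hQ : (polarBilin Q).Nondegenerate)
    (A : Matrix ι ι F) (hA : ∀ v, Q (A *ᵥ v) = Q v) (n : ℕ) (hn : 0 < n)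
    (hj : ∀ j : ℕ, A ^ j = 1 ↔ n ∣ j) (hS : ∑ i ∈ Finset.range n, A ^ i ≠ 0)
    (hev : Even (A - 1).rank) : ∃ M', 2 * n ∣ M' ∧ RealQ F 4 true M' := by
  classical
  have h2F : (2 : F) = 0 := CharTwo.two_eq_zero
  have hAn : A ^ n = 1 := (hj n).mpr dvd_rfl
  obtain ⟨w, hw, hEE, hEs⟩ := exists_idem Q A hA n hn hAn
  have hc : Commute ((A - 1) ^ w) A :=
    (((Commute.refl A).sub_left (Commute.one_left A))).pow_left w
  obtain ⟨k₁, k₂, Q₁, Q₂, A₁, A₂, P, P', hPP', hP'P, hAb, hEb, hQ₁, hQ₂, hA₁, hA₂⟩ :=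
    block_decomp Q hQ A ((A - 1) ^ w) hA hEE hc hEs
  -- conjugation
  have hcm : ∀ Y Z : Matrix ι ι F, P' * (Y * Z) * P = (P' * Y * P) * (P' * Z * P) := by
    intro Y Z
    have : (P' * Y * P) * (P' * Z * P) = P' * (Y * ((P * P') * Z)) * P := by
      simp only [Matrix.mul_assoc]
    rw [this, hPP', Matrix.one_mul]
  have hc1 : P' * (1 : Matrix ι ι F) * P = 1 := by rw [Matrix.mul_one, hP'P]
  have hcpow : ∀ (Y : Matrix ι ι F) (j : ℕ), P' * Y ^ j * P = (P' * Y * P) ^ j := by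
    intro Y j
    induction j with
    | zero => simpa using hc1
    | succ j ih => rw [pow_succ, hcm, ih, pow_succ]
  have hcinj : ∀ Y : Matrix ι ι F, P' * Y * P = 0 → Y = 0 := by
    intro Y h
    calc Y = (P * P') * Y * (P * P') := by rw [hPP']; simp
      _ = P * (P' * Y * P) * P' := by simp [Matrix.mul_assoc]
      _ = 0 := by rw [h]; simp
  have hcrank : ∀ Y : Matrix ι ι F, (P' * Y * P).rank = Y.rank := by
    intro Y
    apply le_antisymm
    · exact (Matrix.rank_mul_le_left _ _).trans (Matrix.rank_mul_le_right _ _)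
    · have : Y = P * (P' * Y * P) * P' := by
        calc Y = (P * P') * Y * (P * P') := by rw [hPP']; simp
          _ = P * (P' * Y * P) * P' := by simp [Matrix.mul_assoc]
      calc Y.rank = (P * (P' * Y * P) * P').rank := by rw [← this]
        _ ≤ (P' * Y * P).rank :=
          (Matrix.rank_mul_le_left _ _).trans (Matrix.rank_mul_le_right _ _)
  have hApow : ∀ j : ℕ, P' * A ^ j * P = fromBlocks (A₁ ^ j) 0 0 (A₂ ^ j) := by
    intro j
    rw [hcpow, hAb, SUM_pow]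
  have hsub : P' * (A - 1) * P = fromBlocks (A₁ - 1) 0 0 (A₂ - 1) := by
    rw [Matrix.mul_sub, Matrix.sub_mul, hAb, hc1, ← fromBlocks_one]
    ext i j
    rcases i with i | i <;> rcases j with j | j <;> simp [Matrix.one_apply]
  have hEb' : fromBlocks ((A₁ - 1) ^ w) 0 0 ((A₂ - 1) ^ w) =
      (fromBlocks 0 0 0 1 : Matrix (Fin k₁ ⊕ Fin k₂) (Fin k₁ ⊕ Fin k₂) F) := by
    rw [← hEb, hcpow, hsub, SUM_pow]
  have hN₁ : (A₁ - 1) ^ w = 0 := (fromBlocks_inj.mp hEb').1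
  have hN₂ : (A₂ - 1) ^ w = 1 := (fromBlocks_inj.mp hEb').2.2.2
  have hiff : ∀ j : ℕ, A ^ j = 1 ↔ (A₁ ^ j = 1 ∧ A₂ ^ j = 1) := by
    intro j
    constructor
    · intro h
      have := hApow j
      rw [h, hc1, ← fromBlocks_one] at this
      have h3 := fromBlocks_inj.mp this
      exact ⟨h3.1.symm, h3.2.2.2.symm⟩
    · rintro ⟨h1, h2⟩
      have := hApow j
      rw [h1, h2, fromBlocks_one, ← hc1, ← sub_eq_zero, ← Matrix.sub_mul, ← Matrix.mul_sub] at this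
      exact sub_eq_zero.mp (hcinj _ this)
  have hSb : P' * (∑ i ∈ Finset.range n, A ^ i) * P =
      fromBlocks (∑ i ∈ Finset.range n, A₁ ^ i) 0 0 (∑ i ∈ Finset.range n, A₂ ^ i) := by
    rw [← UPPER_blk_geom, Matrix.mul_sum, Matrix.sum_mul]
    apply Finset.sum_congr rfl
    intro i _
    rw [hApow, SUM_pow]
  -- dimensions
  have hcard : k₁ + k₂ = 8 := by
    have e1 : (1 : Matrix ι ι F).rank = 8 := by rw [Matrix.rank_one, hι]
    have e2 : (1 : Matrix (Fin k₁ ⊕ Fin k₂) (Fin k₁ ⊕ Fin k₂) F).rank = k₁ + k₂ := by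
      rw [Matrix.rank_one]; simp
    have e3 := hcrank 1
    rw [hc1, e1, e2] at e3
    exact e3
  have halt : ∀ (k : ℕ) (R : QuadraticForm F (Fin k → F)), (polarBilin R).IsAlt := by
    intro k R x
    show polar R x x = 0
    rw [polar_self, two_smul, ← two_mul, h2F, zero_mul]
  obtain ⟨a, ha⟩ := RES_even (polarBilin Q₁) hQ₁ (halt k₁ Q₁)
  obtain ⟨b, hb⟩ := RES_even (polarBilin Q₂) hQ₂ (halt k₂ Q₂)
  rw [Module.finrank_fin_fun] at ha hb
  -- the second block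
  have hinv₂ : (A₂ - 1) ^ (w - 1) * (A₂ - 1) = 1 := by
    rw [← pow_succ, Nat.sub_add_cancel hw, hN₂]
  have hA₁n : A₁ ^ n = 1 := ((hiff n).mp hAn).1
  have hA₂n : A₂ ^ n = 1 := ((hiff n).mp hAn).2
  have hS₂ : ∑ i ∈ Finset.range n, A₂ ^ i = 0 := by
    have h1 := mul_geom_sum A₂ n
    rw [hA₂n, sub_self] at h1
    calc ∑ i ∈ Finset.range n, A₂ ^ i
        = ((A₂ - 1) ^ (w - 1) * (A₂ - 1)) * ∑ i ∈ Finset.range n, A₂ ^ i := by
          rw [hinv₂, one_mul]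
      _ = 0 := by rw [mul_assoc, h1, mul_zero]
  have hS₁ : ∑ i ∈ Finset.range n, A₁ ^ i ≠ 0 := by
    intro h
    apply hS
    apply hcinj
    rw [hSb, h, hS₂, fromBlocks_zero]
  have hrank₂ : (A₂ - 1).rank = k₂ := by
    have hu : IsUnit (A₂ - 1) := ⟨⟨A₂ - 1, (A₂ - 1) ^ (w - 1), mul_eq_one_comm.mp hinv₂, hinv₂⟩, rfl⟩
    rw [Matrix.rank_of_isUnit _ hu, Fintype.card_fin]
  have hrank : (A - 1).rank = (A₁ - 1).rank + k₂ := by
    rw [← hcrank, hsub, rank_fromBlocks_diag, hrank₂]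
  -- the 2-part
  obtain ⟨k, m, hm, hnkm⟩ := Nat.exists_eq_two_pow_mul_odd hn.ne'
  have hA₁w : A₁ ^ (2 ^ w) = 1 := by
    have h1 := UPPER_frob A₁ w
    rw [pow_eq_zero_of_le (Nat.lt_two_pow_self).le hN₁] at h1
    exact sub_eq_zero.mp h1
  have hA₁k : A₁ ^ (2 ^ k) = 1 := by
    have h1 : A₁ ^ (Nat.gcd n (2 ^ w)) = 1 := pow_gcd_eq_one.mpr ⟨hA₁n, hA₁w⟩
    have h2 : Nat.gcd n (2 ^ w) ∣ 2 ^ k := by
      rw [hnkm]
      have hcop : Nat.Coprime m (2 ^ w) := (Nat.Coprime.pow_left w (Nat.coprime_two_left.mpr hm)).symm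
      rw [Nat.Coprime.gcd_mul_right_cancel _ hcop]
      exact Nat.gcd_dvd_left _ _
    obtain ⟨c, hc⟩ := h2
    rw [hc, pow_mul, h1, one_pow]
  have hNk : (A₁ - 1) ^ (2 ^ k - 1) ≠ 0 := by
    rw [← geo_sum, ← UPPER_odd_nsmul (∑ i ∈ Finset.range (2 ^ k), A₁ ^ i) m hm,
      ← UPPER_geom_block A₁ _ hA₁k, ← hnkm]
    exact hS₁
  obtain ⟨hnil, hreg⟩ := nil_rank (A₁ - 1) w hN₁
  rw [Fintype.card_fin] at hnil hreg
  have hlt : 2 ^ k - 1 < k₁ := by
    by_contra hcon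
    push Not at hcon
    exact hNk (pow_eq_zero_of_le hcon hnil)
  have hne : 2 ^ k ≠ k₁ := by
    intro h
    have h1 := hreg (by
      have e : k₁ - 1 = 2 ^ k - 1 := by rw [h]
      rw [e]; exact hNk)
    rw [hrank] at hev
    obtain ⟨r, hr⟩ := hev
    omega
  have hk1 : 1 ≤ 2 ^ k := Nat.one_le_two_pow
  have hlt2 : 2 ^ k < 2 * a := by omega
  have hab : a + b = 4 := by omega
  have h2n : 2 * n = 2 ^ (k + 1) * m := by rw [hnkm, pow_succ]; ring
  have hcop : Nat.Coprime (2 ^ (k + 1)) m := Nat.Coprime.pow_left _ (Nat.coprime_two_left.mpr hm)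
  show R F 4 true (2 * n)
  rcases Nat.eq_zero_or_pos b with hb0 | hb0
  · -- unipotent case
    have ha4 : a = 4 := by omega
    have hk₂ : k₂ = 0 := by omega
    subst hk₂
    have h1 : A ^ (2 ^ k) = 1 := (hiff _).mpr ⟨hA₁k, Subsingleton.elim _ _⟩
    have h3 : n ∣ 2 ^ k := (hj _).mp h1
    have hk2 : k ≤ 2 := by
      by_contra hcon
      push Not at hcon
      have : 2 ^ 3 ≤ 2 ^ k := Nat.pow_le_pow_right (by norm_num) hcon
      omega
    have h8 : R F 4 true (2 ^ 3) :=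
      ((Flex.sum_right Rp1 flex3 : Flex F (1 + 3) _).2).dvd (Nat.dvd_lcm_right _ _)
    apply h8.dvd
    calc 2 * n ∣ 2 * 2 ^ k := Nat.mul_dvd_mul_left 2 h3
      _ = 2 ^ (k + 1) := by rw [pow_succ]; ring
      _ ∣ 2 ^ 3 := pow_dvd_pow 2 (by omega)
  · have ha1 : 1 ≤ a := by omega
    have ha3 : a ≤ 3 := by omega
    have h2a : 2 * a ≤ 2 ^ a := by interval_cases a <;> norm_num
    have hka : k + 1 ≤ a := by
      by_contra hcon
      push Not at hcon
      have : 2 ^ a ≤ 2 ^ k := Nat.pow_le_pow_right (by norm_num) (by omega)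
      omega
    have hfl : Flex F a (2 ^ a) := by
      interval_cases a
      · exact flex1
      · exact flex2
      · exact flex3
    have hM₂ : 0 < orderOf A₂ :=
      orderOf_pos_iff.mpr (isOfFinOrder_iff_pow_eq_one.mpr ⟨n, hn, hA₂n⟩)
    have hReal : ∃ s₂, R F b s₂ (orderOf A₂) := by
      have hcd : Fintype.card (Fin k₂) = 2 * (b - 1 + 1) := by rw [Fintype.card_fin]; omega
      have hcd' : Fintype.card (Fin k₂) = 2 * b := by rw [Fintype.card_fin]; omega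
      rcases exc_ne_zero hcd Q₂ hQ₂ with hpos | hneg
      · exact ⟨false, _, dvd_rfl, Fin k₂, inferInstance, inferInstance, Q₂, A₂, hb0, hM₂, hcd', hQ₂,
          fun h => by simp at h, fun _ => hpos, hA₂, fun j => orderOf_dvd_iff_pow_eq_one.symm⟩
      · exact ⟨true, _, dvd_rfl, Fin k₂, inferInstance, inferInstance, Q₂, A₂, hb0, hM₂, hcd', hQ₂,
          fun _ => hneg, fun h => by simp at h, hA₂, fun j => orderOf_dvd_iff_pow_eq_one.symm⟩
    obtain ⟨s₂, hs₂⟩ := hReal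
    have hsum : R F (a + b) true (Nat.lcm (2 ^ a) (orderOf A₂)) := (hfl.sum_left hs₂).2
    rw [hab] at hsum
    apply hsum.dvd
    rw [h2n]
    apply Nat.Coprime.mul_dvd_of_dvd_of_dvd hcop
    · exact (pow_dvd_pow 2 hka).trans (Nat.dvd_lcm_left _ _)
    · have h1 : A ^ (2 ^ k * orderOf A₂) = 1 := (hiff _).mpr
        ⟨by rw [pow_mul, hA₁k, one_pow], by rw [mul_comm, pow_mul, pow_orderOf_eq_one, one_pow]⟩
      have h3 : n ∣ 2 ^ k * orderOf A₂ := (hj _).mp h1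
      rw [hnkm] at h3
      exact (Nat.dvd_of_mul_dvd_mul_left (by positivity) h3).trans (Nat.dvd_lcm_right _ _)

end Cfsg.Agent.Lib.Helper42.Sp8
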